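import Groth.Agent.Lib.Comp17.Conn
import Groth.Agent.Lib.VB17.Line
import Groth.Agent.Lib.VB17.GlobGen
import Groth.Agent.Lib.TFOne27.Semi
import Groth.Agent.Lib.PP13.Filt
import Groth.Agent.Lib.ResDesc11.Basic
import Groth.Agent.Lib.CohFound.ModQuot
import Groth.Agent.Lib.CohFound.HHBridge
import Groth.Agent.Lib.RelAmple18.Generation

/-!
# Boundedness and quotient slopes on smooth proper, possibly disconnected, curves
-/

set_option autoImplicit false
set_option linter.style.haveILetI false
set_option backward.isDefEq.respectTransparency false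
set_option backward.isDefEq.respectTransparency.types false
set_option maxHeartbeats 1000000

universe u

open CategoryTheory CategoryTheory.Limits AlgebraicGeometry TopologicalSpace

noncomputable section

namespace Groth.Agent.Comp17

open Groth.Agent Groth.Agent.M1 Groth.Agent.M2 Groth.Agent.CurveCoh17

variable {k : Type u} [Field k] {X : Scheme.{u}} [X.Over (Spec (CommRingCat.of k))]

/-- A nonzero `H¹` gives a quotient line bundle of small degree. -/
theorem exists_small_quot (hX : VB17.RegCurve k X) (h0 : Module.finrank k (Coh.HH X (Coh.structureModule X) 0) = 1)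
    (hbig : VB17.HasBigDeg k X) {r : ℕ} {E N : X.Modules} (hE : FlatMod.IsFinLocFreeOfRank r E)
    (hN : PicF.IsInvertible N) (h1 : Nontrivial (Coh.HH X (CohB1.tensorMod E N) 1)) :
    ∃ (I : X.Modules) (p : E ⟶ I), Epi p ∧ FlatMod.IsFinLocFreeOfRank 1 I ∧
      Curv2.deg k X I 1 + Curv2.deg k X N 1 ≤ 2 * (Curv2.genus k X : ℤ) - 2 := by
  haveI := hX.integral; haveI := hX.like.noetherian
  have hN1 := (isInvertible_iff_isFinLocFreeOfRank_one N).1 hN
  have hEN : FlatMod.IsFinLocFreeOfRank r (CohB1.tensorMod E N) := by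
    simpa using isFinLocFreeOfRank_tensor hE hN1
  obtain ⟨W, lam, hW⟩ := VB17.exists_isDualizing hX h0 hbig
  obtain ⟨η, hη⟩ := exists_ne (0 : Coh.HH X (CohB1.tensorMod E N) 1)
  haveI : Module.Free k (Coh.HH X (CohB1.tensorMod E N) 1) := Module.Free.of_divisionRing k _
  haveI : Module.Projective k (Coh.HH X (CohB1.tensorMod E N) 1) := Module.Projective.of_free
  obtain ⟨μ, hμ⟩ := Module.Projective.exists_dual_ne_zero k hη
  obtain ⟨φ, rfl⟩ := hW.exists_hom hX h0 hbig hEN μ
  have hφ : φ ≠ 0 := fun h => hμ (by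
    show lam (hmap k φ 1 η) = 0
    rw [h, hmap_zero, map_zero])
  have hW1 := (isInvertible_iff_isFinLocFreeOfRank_one W).1 hW.inv
  obtain ⟨rK, rI, dK, dI, hK, hI, hdK, hdI, hd, hr', hle, h0', -, -, -, hlast⟩ := VB17.map_data hX hEN hW1 φ
  have h1' : rI = 1 := by
    have : rI ≠ 0 := fun h => hφ (h0'.1 h)
    omega
  subst h1'
  have hb := hlast rfl
  rw [(hW.invariants hX h0 hbig).2.2] at hb
  obtain ⟨N', hN', ⟨e⟩⟩ := exists_inverse hN
  have hN1' := (isInvertible_iff_isFinLocFreeOfRank_one N').1 hN'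
  haveI := CohFound.epi_tensorMap (Abelian.factorThruImage φ) N'
  refine ⟨CohB1.tensorMod (Abelian.image φ) N', (untwist e E).inv ≫ tensorMap (Abelian.factorThruImage φ) (𝟙 N'),
    inferInstance, by simpa using isFinLocFreeOfRank_tensor hI hN1', ?_⟩
  have := hX.like.deg_tensor hI hN1'
  rw [Nat.mul_one] at this
  rw [this, hX.like.deg_of_tensor_iso hN hN' e]
  push_cast
  linarith

include k in
theorem subsingleton_hh_iso {M N : X.Modules} (i : M ≅ N) (n : ℕ) (h : Subsingleton (Coh.HH X N n)) :
    Subsingleton (Coh.HH X M n) := ⟨fun a b => by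
  rw [← hmap_id k M n a, ← hmap_id k M n b, ← i.hom_inv_id, hmap_comp, hmap_comp, Subsingleton.elim (hmap k i.hom n a)]⟩

variable [IsProper (X ↘ Spec (CommRingCat.of k))]

include k in
theorem h1_piece (U : X.Opens) (hU : IsClosed (U : Set X)) {M : X.Modules} (hM : Coh.IsQCoh M)
    (h : Subsingleton (Coh.HH (U : Scheme.{u}) (M.restrict U.ι) 1)) :
    Subsingleton (Coh.HH X (piece U M) 1) := by
  letI := overU (k := k) U
  haveI : IsClosedImmersion U.ι := IsClosedImmersion.of_isPreimmersion _ (by
    rw [Scheme.Opens.range_ι]; exact hU)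
  haveI : (M.restrict U.ι).IsQuasicoherent := M1.isQCoh_restrict hM U.ι
  obtain ⟨e⟩ := nonempty_hequiv_push k U.ι rfl (M.restrict U.ι) 1
  exact e.toEquiv.subsingleton

include k in
/-- `H¹` vanishes if it vanishes on the connected pieces. -/
theorem h1_of_components {M : X.Modules} (hM : Coh.IsCoh M)
    (h : ∀ W : X.Opens, IsClosed (W : Set X) → _root_.IsConnected (W : Set X) → Subsingleton (Coh.HH X (piece W M) 1)) :
    Subsingleton (Coh.HH X M 1) := by
  haveI : IsNoetherian X := VB17.isNoetherian_of_over (k := k) (X := X)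
  have key : ∀ W : X.Opens, IsClosed (W : Set X) → Subsingleton (Coh.HH X (piece W M) 1) := by
    refine fun W hW => clopen_induction (P := fun W => Subsingleton (Coh.HH X (piece W M) 1)) ?_ h ?_ W hW
    · intro W hW he
      have hz := isZero_piece_empty hW he M
      exact ⟨fun a b => by
        rw [← hmap_id k (piece W M) 1 a, ← hmap_id k (piece W M) 1 b, hz.eq_of_src (𝟙 _) 0, hmap_zero, hmap_zero]⟩
    · intro W W₁ W₂ hW h₁ h₂ heq hdj i1 i2
      obtain ⟨A, C, f, g, hfg, hS, ⟨eA⟩, ⟨eC⟩⟩ := exists_split_union hW h₁ h₂ heq hdj M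
      haveI := subsingleton_hh_iso (k := k) eA 1 i2
      haveI := subsingleton_hh_iso (k := k) eC 1 i1
      have hex := exact_hmap_hmap (A := k) hS 1
      refine subsingleton_of_forall_eq 0 fun b => ?_
      obtain ⟨a, rfl⟩ := (hex b).1 (Subsingleton.elim _ _)
      rw [Subsingleton.elim a 0, map_zero]
  obtain ⟨i⟩ := nonempty_piece_top M
  exact subsingleton_hh_iso (k := k) i 1 (key ⊤ isClosed_univ)

variable [Smooth (X ↘ Spec (CommRingCat.of k))] [IsAlgClosed k]

theorem dichotomy (hd : topologicalKrullDim X = 1) (U : X.Opens) (hU : IsClosed (U : Set X))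
    (hc : _root_.IsConnected (U : Set X)) :
    letI := overU (k := k) U
    (∀ M : (U : Scheme.{u}).Modules, Coh.IsQCoh M → Subsingleton (Coh.HH (U : Scheme.{u}) M 1)) ∨
      (IsIntegral (U : Scheme.{u}) ∧ VB17.RegCurve k (U : Scheme.{u}) ∧ topologicalKrullDim (U : Scheme.{u}) = 1 ∧
        Module.finrank k (Coh.HH (U : Scheme.{u}) (Coh.structureModule (U : Scheme.{u})) 0) = 1 ∧
        VB17.HasBigDeg k (U : Scheme.{u})) := by
  letI := overU (k := k) U
  haveI := isProper_piece (k := k) U hU
  haveI hsm : Smooth ((U : Scheme.{u}) ↘ Spec (CommRingCat.of k)) :=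
    inferInstanceAs (Smooth (U.ι ≫ (X ↘ Spec (CommRingCat.of k))))
  haveI : IsNoetherian (U : Scheme.{u}) := VB17.isNoetherian_of_over (k := k)
  haveI : ConnectedSpace (U : Scheme.{u}) := Subtype.connectedSpace hc
  haveI : IsIntegral (U : Scheme.{u}) := VB17.isIntegral_of_connected fun x =>
    SmoothReg17.isDomain_stalk ((U : Scheme.{u}) ↘ Spec (CommRingCat.of k)) x
  by_cases hdim : topologicalKrullDim (U : Scheme.{u}) = 1
  · refine Or.inr ⟨inferInstance, VB17.regCurve' hdim, hdim, VB17.h0_one_of_smooth, ?_⟩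
    exact VB17.hasBigDeg_of_isAlgClosed (VB17.curveLike hdim) hdim
      fun x => SmoothReg17.isRegularLocalRing_stalk ((U : Scheme.{u}) ↘ Spec (CommRingCat.of k)) x
  · refine Or.inl fun M hM => ?_
    have hle : topologicalKrullDim (U : Scheme.{u}) ≤ 1 :=
      (Topology.IsInducing.topologicalKrullDim_le (f := U.ι) U.ι.isOpenEmbedding.isInducing).trans hd.le
    have hcl : ∀ x : (U : Scheme.{u}), x = genericPoint (U : Scheme.{u}) := fun x => by
      by_contra hne
      have hlts : (⟨closure {x}, isIrreducible_singleton.closure, isClosed_closure⟩ : IrreducibleCloseds (U : Scheme.{u})) <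
          ⟨closure {genericPoint (U : Scheme.{u})}, isIrreducible_singleton.closure, isClosed_closure⟩ := by
        refine lt_of_le_of_ne ?_ fun h => ?_
        · show closure {x} ⊆ closure {genericPoint (U : Scheme.{u})}
          exact closure_minimal (Set.singleton_subset_iff.2 (genericPoint_specializes x).mem_closure) isClosed_closure
        · have h' : closure {x} = closure {genericPoint (U : Scheme.{u})} := congrArg IrreducibleCloseds.carrier h
          exact hne ((specializes_iff_mem_closure.2 (h' ▸ subset_closure rfl)).antisymm (genericPoint_specializes x)).eq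
      have hpos : (0 : WithBot ℕ∞) < Order.krullDim (IrreducibleCloseds (U : Scheme.{u})) :=
        Order.krullDim_pos_iff.2 ⟨_, _, hlts⟩
      refine hdim (le_antisymm hle ?_)
      show (1 : WithBot ℕ∞) ≤ Order.krullDim (IrreducibleCloseds (U : Scheme.{u}))
      revert hpos
      generalize Order.krullDim (IrreducibleCloseds (U : Scheme.{u})) = t
      intro h
      induction t using WithBot.recBotCoe with
      | bot => exact absurd h (by simp)
      | coe n => exact WithBot.one_le_coe.2 (Order.one_le_iff_pos.2 (WithBot.coe_pos.1 h))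
    haveI : Subsingleton (U : Scheme.{u}) := ⟨fun a b => (hcl a).trans (hcl b).symm⟩
    haveI : M.IsQuasicoherent := hM
    exact CohFound.subsingleton_HH_affine M 1 one_pos

end Groth.Agent.Comp17

namespace Groth.Agent.Comp17

open Groth.Agent Groth.Agent.M1 Groth.Agent.M2 Groth.Agent.CurveCoh17

variable {k : Type u} [Field k] [IsAlgClosed k] {X : Scheme.{u}} [X.Over (Spec (CommRingCat.of k))]
  [IsProper (X ↘ Spec (CommRingCat.of k))] [Smooth (X ↘ Spec (CommRingCat.of k))]

variable (k) in
/-- On every one-dimensional component, an invertible module of degree at least `-1`. -/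
def AlmostTriv (T : X.Modules) : Prop :=
  Coh.IsQCoh T ∧ ∀ U : X.Opens, IsClosed (U : Set X) → _root_.IsConnected (U : Set X) →
    topologicalKrullDim (U : Scheme.{u}) = 1 →
      letI := overU (k := k) U
      FlatMod.IsFinLocFreeOfRank 1 (T.restrict U.ι) ∧
      Curv2.euler k (U : Scheme.{u}) (Coh.structureModule (U : Scheme.{u})) - 1 ≤
        Curv2.euler k (U : Scheme.{u}) (T.restrict U.ι)

omit [IsAlgClosed k] [IsProper (X ↘ Spec (CommRingCat.of k))] [Smooth (X ↘ Spec (CommRingCat.of k))] in
theorem almostTriv_structureModule : AlmostTriv k (Coh.structureModule X) := by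
  refine ⟨isCoh_structureModule.1, fun U _ _ _ => ⟨?_, ?_⟩⟩
  · exact (isInvertible_iff_isFinLocFreeOfRank_one _).1
      (M2.isInvertible_restrict (PicLoc.isInvertible_structureModule X) U.ι)
  · letI := overU (k := k) U
    rw [euler_iso (Scheme.Modules.restrictUnitIso U.ι)]
    exact sub_le_self _ zero_le_one

theorem almostTriv_pointIdeal (hd : topologicalKrullDim X = 1) {x : X} (hx : IsClosed ({x} : Set X)) :
    AlmostTriv k (ClSub.idealMod (Scheme.IdealSheafData.vanishingIdeal (⟨{x}, hx⟩ : Closeds X))) := by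
  haveI : IsNoetherian X := VB17.isNoetherian_of_over (k := k) (X := X)
  set Z := Scheme.IdealSheafData.vanishingIdeal (⟨{x}, hx⟩ : Closeds X)
  have hI := isCoh_idealMod Z
  have hQ := isCoh_quotMod Z
  refine ⟨hI.1, fun U hU hc hdim => ?_⟩
  letI := overU (k := k) U
  haveI := isProper_piece (k := k) U hU
  haveI : Smooth ((U : Scheme.{u}) ↘ Spec (CommRingCat.of k)) :=
    inferInstanceAs (Smooth (U.ι ≫ (X ↘ Spec (CommRingCat.of k))))
  haveI : IsNoetherian (U : Scheme.{u}) := VB17.isNoetherian_of_over (k := k)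
  haveI : ConnectedSpace (U : Scheme.{u}) := Subtype.connectedSpace hc
  haveI : IsIntegral (U : Scheme.{u}) := VB17.isIntegral_of_connected fun y =>
    SmoothReg17.isDomain_stalk ((U : Scheme.{u}) ↘ Spec (CommRingCat.of k)) y
  let S := ShortComplex.mk (ClSub.idealModι Z) (ClSub.toSubscheme Z) (kernel.condition _)
  have hS : S.ShortExact := shortExact_idealMod Z
  haveI : PreservesFiniteLimits (Scheme.Modules.restrictFunctor U.ι) := inferInstance
  haveI : (Scheme.Modules.restrictFunctor U.ι).Additive := inferInstance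
  have hR : (S.map (Scheme.Modules.restrictFunctor U.ι)).ShortExact := hS.map_of_exact _
  have hO1 : FlatMod.IsFinLocFreeOfRank 1 ((Coh.structureModule X).restrict U.ι) :=
    (isInvertible_iff_isFinLocFreeOfRank_one _).1
      (M2.isInvertible_restrict (PicLoc.isInvertible_structureModule X) U.ι)
  haveI := hR.mono_f
  obtain ⟨r', hr', hIr⟩ := VB17.exists_rank_of_mono (VB17.regCurve' (k := k) hdim).pid hO1
    (DPerf.isCoh_restrict hI U.ι) (S.map (Scheme.Modules.restrictFunctor U.ι)).f
  have hsupp := suppIn_quotMod_point hx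
  refine ⟨?_, ?_⟩
  · interval_cases r'
    · exfalso
      have hη : U.ι (genericPoint (U : Scheme.{u})) ≠ x := fun h => by
        have hcl : IsClosed ({genericPoint (U : Scheme.{u})} : Set (U : Scheme.{u})) := by
          have : ({genericPoint (U : Scheme.{u})} : Set (U : Scheme.{u})) = U.ι ⁻¹' {x} := by
            rw [← h]
            exact (U.ι.isOpenEmbedding.injective.preimage_image {genericPoint (U : Scheme.{u})}).symm.trans
              (by rw [Set.image_singleton])
          rw [this]
          exact hx.preimage U.ι.continuous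
        haveI : Subsingleton (U : Scheme.{u}) := ⟨fun a b => by
          rw [Set.mem_singleton_iff.1 ((genericPoint_specializes a).mem_closed hcl rfl),
            Set.mem_singleton_iff.1 ((genericPoint_specializes b).mem_closed hcl rfl)]⟩
        haveI : Subsingleton (IrreducibleCloseds (U : Scheme.{u})) := ⟨fun A B => IrreducibleCloseds.ext (by
          rw [A.isIrreducible.nonempty.eq_univ, B.isIrreducible.nonempty.eq_univ])⟩
        have : topologicalKrullDim (U : Scheme.{u}) ≤ 0 := Order.krullDim_nonpos_of_subsingleton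
        rw [hdim] at this
        exact absurd this (by simp)
      haveI := hS.mono_f
      have hIz : Subsingleton ((ClSub.idealMod Z).presheaf.stalk (U.ι (genericPoint (U : Scheme.{u}))) : Type u) :=
        @Equiv.subsingleton _ _ ((Scheme.Modules.restrictStalkNatIso U.ι (genericPoint (U : Scheme.{u}))).app
          (ClSub.idealMod Z)).addCommGroupIsoToAddEquiv.toEquiv.symm
          (AddCommGrpCat.subsingleton_of_isZero ((M1.stalkAb _).map_isZero (VB17.isZero_of_rank_zero hIr)))
      obtain ⟨eO⟩ := CurveCoh17.nonempty_stalk_equiv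
        ((isInvertible_iff_isFinLocFreeOfRank_one _).1 (PicLoc.isInvertible_structureModule X))
        (U.ι (genericPoint (U : Scheme.{u})))
      let one' := eO.symm fun _ => 1
      obtain ⟨a, ha⟩ := M1.exact_elem hS.exact _ one' (hsupp.zero _ (by simpa using hη) _)
      rw [@Subsingleton.elim _ hIz a 0, map_zero] at ha
      have := congrFun (eO.symm.injective (ha.symm.trans (map_zero eO.symm).symm)) 0
      exact one_ne_zero this
    · exact hIr
  · -- the Euler characteristics of the pieces
    haveI : IsClosedImmersion U.ι := IsClosedImmersion.of_isPreimmersion _ (by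
      rw [Scheme.Opens.range_ι]; exact hU)
    have hP := PP13.shortExact_push U.ι hR
      (M1.isQCoh_restrict isCoh_structureModule.1 U.ι) (M1.isQCoh_restrict hQ.1 U.ι)
    have hadd := (e_add k hd (PicLoc.isInvertible_structureModule X) hP (isCoh_piece U hU hI)
      (isCoh_piece U hU isCoh_structureModule) (isCoh_piece U hU hQ)).1
    change e k (piece U (Coh.structureModule X)) = e k (piece U (ClSub.idealMod Z)) + e k (piece U (ClSub.quotMod Z)) at hadd
    rw [e_piece U hU hI.1, e_piece U hU isCoh_structureModule.1] at hadd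
    have hle : e k (piece U (ClSub.quotMod Z)) ≤ 1 := by
      by_cases hxU : x ∈ U
      · haveI : IsIso (θ U (ClSub.quotMod Z)) := isIso_of_bijective_or _ fun y => by
          by_cases hy : y ∈ U
          · exact Or.inl (bijective_θ U _ hy)
          · exact Or.inr ⟨subsingleton_of_forall_eq 0 fun a => hsupp.zero y
              (by simpa using fun h : y = x => hy (h ▸ hxU)) a, subsingleton_piece U hU _ hy⟩
        rw [← e_iso k (asIso (θ U (ClSub.quotMod Z))), e, hsupp.euler_eq (VB17.fin_of_proper _ hQ 0),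
          finrank_quotMod_point hx, finrank_residueField hx]
        simp
      · have hz : IsZero (piece U (ClSub.quotMod Z)) := Snapper.isZero_of_support_empty
          (Set.eq_empty_of_forall_notMem fun y hy => hy (by
            by_cases hyU : y ∈ U
            · haveI : Subsingleton ((ClSub.quotMod Z).presheaf.stalk y : Type u) :=
                subsingleton_of_forall_eq 0 fun a => hsupp.zero y (by simpa using fun h : y = x => hxU (h ▸ hyU)) a
              exact (bijective_θ U _ hyU).2.subsingleton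
            · exact subsingleton_piece U hU _ hyU))
        rw [(zero_vals k hd (PicLoc.isInvertible_structureModule X) hz).1]
        norm_num
    have h' : (Curv2.euler k (U : Scheme.{u}) (Coh.structureModule (U : Scheme.{u})) : ℚ) - 1 ≤
        (Curv2.euler k (U : Scheme.{u}) ((ClSub.idealMod Z).restrict U.ι) : ℚ) := by
      rw [← euler_iso (Scheme.Modules.restrictUnitIso U.ι)]
      show e k ((Coh.structureModule X).restrict U.ι) - 1 ≤ e k ((ClSub.idealMod Z).restrict U.ι)
      linarith
    exact_mod_cast h'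

variable {L : X.Modules}

omit [IsAlgClosed k] [IsProper (X ↘ Spec (CommRingCat.of k))] [Smooth (X ↘ Spec (CommRingCat.of k))] in
theorem twist_assoc (T E : X.Modules) (n : ℕ) (L : X.Modules) :
    Nonempty (CohB1.tensorMod T (CohB1.tensorMod E (CohB1.tensorPow L n)) ≅
      CohB1.tensorMod E (CohB1.tensorMod (CohB1.tensorPow L n) T)) :=
  ⟨tensorComm _ _ ≪≫ tensorAssoc _ _ _⟩

/-- The uniform vanishing from a slope bound, on one connected piece. -/
theorem exists_bound_piece (hd : topologicalKrullDim X = 1) (hL : CohB1.IsAmple L) {r : ℕ} (S : Set X.Modules)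
    (hS : ∀ E ∈ S, FlatMod.IsFinLocFreeOfRank r E) (C : ℚ)
    (hC : ∀ E ∈ S, ∀ (Q : X.Modules) (p : E ⟶ Q), Epi p → FlatMod.IsFinLocFree Q → 0 < a k L Q →
      C * a k L Q ≤ e k Q)
    (U : X.Opens) (hU : IsClosed (U : Set X)) (hc : _root_.IsConnected (U : Set X)) :
    ∃ n₀ : ℕ, ∀ n : ℕ, n₀ ≤ n → ∀ E ∈ S, ∀ T, AlmostTriv k T →
      Subsingleton (Coh.HH X (piece U (CohB1.tensorMod T (CohB1.tensorMod E (CohB1.tensorPow L n)))) 1) := by
  letI := overU (k := k) U
  haveI : IsNoetherian X := VB17.isNoetherian_of_over (k := k) (X := X)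
  haveI := isProper_piece (k := k) U hU
  haveI : IsClosedImmersion U.ι := IsClosedImmersion.of_isPreimmersion _ (by
    rw [Scheme.Opens.range_ι]; exact hU)
  have hq : ∀ {T E : X.Modules} (n : ℕ), Coh.IsQCoh T → FlatMod.IsFinLocFreeOfRank r E →
      Coh.IsQCoh (CohB1.tensorMod T (CohB1.tensorMod E (CohB1.tensorPow L n))) := fun n hT hE =>
    isQCoh_tensor hT (isQCoh_tensor (isCoh_of_ofRank hE).1
      (isCoh_of_ofRank ((isInvertible_iff_isFinLocFreeOfRank_one _).1 (M2.isInvertible_tensorPow hL.1 n))).1)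
  rcases dichotomy (k := k) hd U hU hc with h | ⟨hint, hX, hdim, h0, hbig⟩
  · exact ⟨0, fun n _ E hE T hT => h1_piece (k := k) U hU (hq n hT.1 (hS E hE))
      (h _ (M1.isQCoh_restrict (hq n hT.1 (hS E hE)) U.ι))⟩
  haveI := hint
  haveI := hX.like.noetherian
  have hL1 := (isInvertible_iff_isFinLocFreeOfRank_one _).1 (M2.isInvertible_restrict hL.1 U.ι)
  set dU : ℤ := Curv2.deg k (U : Scheme.{u}) (L.restrict U.ι) 1 with hdU
  have hLf := M2.isFinLocFree_of_ofRank ((isInvertible_iff_isFinLocFreeOfRank_one L).1 hL.1)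
  have ha : ∀ (I : (U : Scheme.{u}).Modules), FlatMod.IsFinLocFreeOfRank 1 I →
      e k ((Scheme.Modules.pushforward U.ι).obj I) = (Curv2.euler k (U : Scheme.{u}) I : ℚ) ∧
      a k L ((Scheme.Modules.pushforward U.ι).obj I) = (dU : ℚ) ∧
      FlatMod.IsFinLocFree ((Scheme.Modules.pushforward U.ι).obj I) := fun I hI => by
    have hQ : FlatMod.IsFinLocFree ((Scheme.Modules.pushforward U.ι).obj I) :=
      ResDesc11.isFinLocFree_push U.ι ⟨inferInstance, inferInstance, inferInstance⟩ (M2.isFinLocFree_of_ofRank hI)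
    let i : ((Scheme.Modules.pushforward U.ι).obj I).restrict U.ι ≅ I :=
      asIso ((Scheme.Modules.restrictAdjunction U.ι).counit.app I)
    have i' : piece U ((Scheme.Modules.pushforward U.ι).obj I) ≅ (Scheme.Modules.pushforward U.ι).obj I :=
      (Scheme.Modules.pushforward U.ι).mapIso i
    obtain ⟨j⟩ := nonempty_piece_tensor U hU ((Scheme.Modules.pushforward U.ι).obj I) L
    have h1 := e_piece (k := k) U hU (isQCoh_of_isFinLocFree hQ)
    have h2 := e_piece (k := k) U hU (isQCoh_of_isFinLocFree (M2.isFinLocFree_tensor hQ hLf))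
    unfold e at h1 h2
    refine ⟨?_, ?_, hQ⟩
    · rw [← e_iso k i', e, h1, euler_iso i]
    · rw [← a_iso k L i', a, euler_iso j, h2, h1,
        euler_iso (M2.restrictTensorIso U.ι _ L ≪≫ M2.tensorIso i (Iso.refl _)), euler_iso i,
        hX.like.euler_tensor hI hL1, hdU, Curv2.deg]
      push_cast
      ring
  have hpos : 0 < dU := by
    have h := ha (Coh.structureModule (U : Scheme.{u}))
      ((isInvertible_iff_isFinLocFreeOfRank_one _).1 (PicLoc.isInvertible_structureModule _))
    have hQc : Coh.IsCoh ((Scheme.Modules.pushforward U.ι).obj (Coh.structureModule (U : Scheme.{u}))) :=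
      Cyc26.isCoh_push_finite U.ι isCoh_structureModule
    suffices (0 : ℚ) < (dU : ℚ) by exact_mod_cast this
    rw [← h.2.1]
    refine a_pos k hd hL hQc (le_antisymm (dim_le hd _) ?_)
    have hin : ∀ y : (U : Scheme.{u}),
        U.ι y ∈ CohB1.support ((Scheme.Modules.pushforward U.ι).obj (Coh.structureModule (U : Scheme.{u}))) := fun y hy => by
      obtain ⟨eO⟩ := CurveCoh17.nonempty_stalk_equiv
        ((isInvertible_iff_isFinLocFreeOfRank_one _).1 (PicLoc.isInvertible_structureModule (U : Scheme.{u}))) y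
      haveI : Subsingleton ((Coh.structureModule (U : Scheme.{u})).presheaf.stalk y : Type u) :=
        @Equiv.subsingleton _ _ ((M1.stalkAb y).mapIso (asIso ((Scheme.Modules.restrictAdjunction U.ι).counit.app
          (Coh.structureModule (U : Scheme.{u}))))).addCommGroupIsoToAddEquiv.toEquiv.symm
          (((Scheme.Modules.restrictStalkNatIso U.ι y).app _).addCommGroupIsoToAddEquiv.toEquiv.subsingleton_congr.2 hy)
      exact one_ne_zero (congrFun (eO.symm.injective (Subsingleton.elim (eO.symm fun _ => (1 : _)) (eO.symm fun _ => 0))) 0)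
    refine le_trans (le_of_eq ?_) (Topology.IsInducing.topologicalKrullDim_le
      (f := fun y : (U : Scheme.{u}) => (⟨U.ι y, hin y⟩ : CohB1.support _))
      (Topology.IsInducing.of_comp (by fun_prop) continuous_subtype_val U.ι.isOpenEmbedding.isInducing))
    rw [hdim, Nat.cast_one]
  -- choice of the bound
  set χU : ℤ := Curv2.euler k (U : Scheme.{u}) (Coh.structureModule (U : Scheme.{u})) with hχU
  obtain ⟨n₀, hn₀⟩ := exists_nat_gt (((2 * (Curv2.genus k (U : Scheme.{u}) : ℤ) - 1 + χU : ℤ) : ℚ) / (dU : ℚ) - C)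
  refine ⟨n₀, fun n hn E hE T hT => ?_⟩
  obtain ⟨hT1, hTχ⟩ := hT.2 U hU hc hdim
  have hTU := (isInvertible_iff_isFinLocFreeOfRank_one _).2 hT1
  have hEq : Coh.IsQCoh (CohB1.tensorMod T (CohB1.tensorMod E (CohB1.tensorPow L n))) := hq n hT.1 (hS E hE)
  refine h1_piece (k := k) U hU hEq ?_
  obtain ⟨i⟩ := twist_assoc T E n L
  let N := CohB1.tensorMod (CohB1.tensorPow (L.restrict U.ι) n) (T.restrict U.ι)
  have hLn := M2.isInvertible_tensorPow ((isInvertible_iff_isFinLocFreeOfRank_one _).2 hL1) n
  have hN : PicF.IsInvertible N := M2.isInvertible_tensor hLn hTU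
  refine subsingleton_hh_iso (k := k) ((Scheme.Modules.restrictFunctor U.ι).mapIso i ≪≫
    M2.restrictTensorIso U.ι E _ ≪≫ M2.tensorIso (Iso.refl _) (M2.restrictTensorIso U.ι _ T ≪≫
      M2.tensorIso (M2.restrictTensorPowIso U.ι L n) (Iso.refl _))) 1 ?_
  by_contra hne
  rw [not_subsingleton_iff_nontrivial] at hne
  obtain ⟨I, p, hp, hI, hdeg⟩ := exists_small_quot hX h0 hbig (M2.isFinLocFreeOfRank_of_iso ((Scheme.Modules.restrictFunctorIsoPullback U.ι).app E).symm
    (M2.isFinLocFreeOfRank_pullback U.ι (hS E hE))) hN hne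
  obtain ⟨heQ, haQ, hQ⟩ := ha I hI
  haveI : Epi (θ U E) := (M1.epi_iff_stalk _).2 fun y => by
    by_cases hy : y ∈ U
    · exact (bijective_θ U E hy).2
    · exact fun b => ⟨0, (eq_zero_off U hU E hy _).trans (eq_zero_off U hU E hy b).symm⟩
  haveI := TFOne27.epi_push_closed U.ι p
  have := hC E hE _ (θ U E ≫ (Scheme.Modules.pushforward U.ι).map p) inferInstance hQ
    (by rw [haQ]; exact_mod_cast hpos)
  rw [haQ, heQ] at this
  have hdN : Curv2.deg k (U : Scheme.{u}) N 1 =
      n * dU + Curv2.deg k (U : Scheme.{u}) (T.restrict U.ι) 1 := by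
    rw [hX.like.deg_tensor_invertible hLn hTU, hX.like.deg_tensorPow ((isInvertible_iff_isFinLocFreeOfRank_one _).2 hL1)]
  have hIχ : Curv2.euler k (U : Scheme.{u}) I ≤ 2 * (Curv2.genus k (U : Scheme.{u}) : ℤ) - 1 + χU - n * dU := by
    rw [hdN, Curv2.deg, Curv2.deg, ← hχU] at hdeg
    simp only [Nat.cast_one, one_mul] at hdeg
    omega
  have hIq : (Curv2.euler k (U : Scheme.{u}) I : ℚ) ≤
      ((2 * (Curv2.genus k (U : Scheme.{u}) : ℤ) - 1 + χU : ℤ) : ℚ) - n * dU := by exact_mod_cast hIχ
  have hdq : (0 : ℚ) < (dU : ℚ) := by exact_mod_cast hpos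
  rw [sub_lt_iff_lt_add, div_lt_iff₀ hdq] at hn₀
  have hnq : (n₀ : ℚ) ≤ n := by exact_mod_cast hn
  nlinarith

/-- The uniform vanishing from a slope bound. -/
theorem exists_bound (hd : topologicalKrullDim X = 1) (hL : CohB1.IsAmple L) {r : ℕ} (S : Set X.Modules)
    (hS : ∀ E ∈ S, FlatMod.IsFinLocFreeOfRank r E) (C : ℚ)
    (hC : ∀ E ∈ S, ∀ (Q : X.Modules) (p : E ⟶ Q), Epi p → FlatMod.IsFinLocFree Q → 0 < a k L Q →
      C * a k L Q ≤ e k Q) :
    ∃ n₀ : ℕ, ∀ n : ℕ, n₀ ≤ n → ∀ E ∈ S, ∀ T, AlmostTriv k T → Coh.IsCoh T →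
      Subsingleton (Coh.HH X (CohB1.tensorMod T (CohB1.tensorMod E (CohB1.tensorPow L n))) 1) := by
  haveI : IsNoetherian X := VB17.isNoetherian_of_over (k := k) (X := X)
  let P : X.Opens → Prop := fun W => ∃ n₀ : ℕ, ∀ V : X.Opens, IsClosed (V : Set X) → _root_.IsConnected (V : Set X) →
    V ≤ W → ∀ n : ℕ, n₀ ≤ n → ∀ E ∈ S, ∀ T, AlmostTriv k T →
      Subsingleton (Coh.HH X (piece V (CohB1.tensorMod T (CohB1.tensorMod E (CohB1.tensorPow L n)))) 1)
  have key : ∀ W : X.Opens, IsClosed (W : Set X) → P W := by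
    refine fun W hW => clopen_induction (P := P) ?_ ?_ ?_ W hW
    · exact fun W _ he => ⟨0, fun V _ hc hVW => absurd (hVW hc.nonempty.some_mem)
        (Set.eq_empty_iff_forall_notMem.1 he _)⟩
    · intro W hW hc
      obtain ⟨n₀, h⟩ := exists_bound_piece (k := k) hd hL S hS C hC W hW hc
      refine ⟨n₀, fun V hV hcV hVW => ?_⟩
      have : W ≤ V := fun y hy => (hc.isPreconnected.subset_isClopen ⟨hV, V.isOpen⟩
        ⟨_, hVW hcV.nonempty.some_mem, hcV.nonempty.some_mem⟩) hy
      obtain rfl := le_antisymm hVW this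
      exact h
    · intro W W₁ W₂ hW h₁ h₂ heq hdj ⟨n₁, i1⟩ ⟨n₂, i2⟩
      refine ⟨max n₁ n₂, fun V hV hc hVW n hn => ?_⟩
      rcases ((V : Set X) ∩ (W₁ : Set X)).eq_empty_or_nonempty with h | h
      · exact i2 V hV hc (fun y hy => (show y ∈ (W₁ : Set X) ∪ (W₂ : Set X) from heq ▸ hVW hy).resolve_left
          fun h1 => Set.eq_empty_iff_forall_notMem.1 h y ⟨hy, h1⟩) n (le_trans (le_max_right _ _) hn)
      · exact i1 V hV hc (hc.isPreconnected.subset_isClopen ⟨h₁, W₁.isOpen⟩ h) n (le_trans (le_max_left _ _) hn)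
  obtain ⟨n₀, h⟩ := key ⊤ isClosed_univ
  refine ⟨n₀, fun n hn E hE T hT hTc => h1_of_components (k := k) ?_ fun W hW hc => h W hW hc le_top n hn E hE T hT⟩
  exact isCoh_tensor hTc (isCoh_tensor (isCoh_of_ofRank (hS E hE))
    (isCoh_of_ofRank ((isInvertible_iff_isFinLocFreeOfRank_one _).1 (M2.isInvertible_tensorPow hL.1 n))))

/-- Generators at a closed point generate at every generisation. -/
theorem span_germ_of_specializes {x y : X} (hsp : y ⤳ x) {r : ℕ} {E : X.Modules}
    (hE : FlatMod.IsFinLocFreeOfRank r E)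
    (h : Submodule.span (X.presheaf.stalk x)
      (Set.range fun t : Γ(E, (⊤ : X.Opens)) => (E.presheaf.germ ⊤ x trivial t : E.presheaf.stalk x)) = ⊤) :
    Submodule.span (X.presheaf.stalk y)
      (Set.range fun t : Γ(E, (⊤ : X.Opens)) => (E.presheaf.germ ⊤ y trivial t : E.presheaf.stalk y)) = ⊤ := by
  set S := Submodule.span (X.presheaf.stalk y)
      (Set.range fun t : Γ(E, (⊤ : X.Opens)) => (E.presheaf.germ ⊤ y trivial t : E.presheaf.stalk y)) with hS
  have hη : ∀ U : X.Opens, x ∈ U → y ∈ U := fun U hU => hsp.mem_open U.2 hU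
  have key : ∀ a : E.presheaf.stalk x, ∃ (U : X.Opens) (hx : x ∈ U) (s : Γ(E, U)),
      E.presheaf.germ U x hx s = a ∧ (E.presheaf.germ U y (hη U hx) s : E.presheaf.stalk y) ∈ S := by
    intro a
    have ha : a ∈ Submodule.span (X.presheaf.stalk x)
      (Set.range fun t : Γ(E, (⊤ : X.Opens)) => (E.presheaf.germ ⊤ x trivial t : E.presheaf.stalk x)) := h ▸ trivial
    induction ha using Submodule.span_induction with
    | mem b hb =>
      obtain ⟨t, rfl⟩ := hb
      exact ⟨⊤, trivial, t, rfl, Submodule.subset_span ⟨t, rfl⟩⟩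
    | zero => exact ⟨⊤, trivial, 0, map_zero _, by rw [map_zero]; exact zero_mem S⟩
    | add b c _ _ hb hc =>
      obtain ⟨U, hU, s, rfl, hs⟩ := hb
      obtain ⟨V, hV, t, rfl, ht⟩ := hc
      refine ⟨U ⊓ V, ⟨hU, hV⟩, mres E inf_le_left s + mres E inf_le_right t, ?_, ?_⟩
      · rw [map_add, germ_mres, germ_mres]
      · rw [map_add, germ_mres, germ_mres]; exact add_mem hs ht
    | smul c b _ hb =>
      obtain ⟨U, hU, s, rfl, hs⟩ := hb
      obtain ⟨V, hV, c₀, rfl⟩ := X.presheaf.exists_germ_eq c
      refine ⟨U ⊓ V, ⟨hU, hV⟩, (ores (inf_le_right : U ⊓ V ≤ V) c₀) • mres E (inf_le_left : U ⊓ V ≤ U) s, ?_, ?_⟩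
      · rw [Groth.Agent.M1.germ_smul, germ_mres]
        congr 1
        exact X.presheaf.germ_res_apply _ _ _ _
      · rw [Groth.Agent.M1.germ_smul, germ_mres]; exact S.smul_mem _ hs
  obtain ⟨D, b, hxD, hb⟩ := P1Split.exists_isBas_nhd hE x
  have hei : ∀ i, (E.presheaf.germ D y (hη D hxD) (b i) : E.presheaf.stalk y) ∈ S := by
    intro i
    obtain ⟨U, hU, s, hs, hsS⟩ := key (E.presheaf.germ D x hxD (b i))
    obtain ⟨W, hxW, i₁, i₂, hW⟩ := E.presheaf.germ_eq x hU hxD s (b i) hs
    rw [← E.presheaf.germ_res_apply i₂ y (hη W hxW), ← hW, E.presheaf.germ_res_apply i₁ y (hη W hxW)]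
    exact hsS
  refine top_le_iff.1 fun a _ => ?_
  obtain ⟨c, hc⟩ := (hb.stalk (hη D hxD)).2 a
  rw [← hc]
  exact S.sum_mem fun i _ => S.smul_mem _ (hei i)

/-- Euler characteristics of twists. -/
theorem euler_twist (hd : topologicalKrullDim X = 1) (hL : PicF.IsInvertible L) {M : X.Modules} (hM : Coh.IsCoh M)
    (n : ℕ) : e k (CohB1.tensorMod M (CohB1.tensorPow L n)) = e k M + n * a k L M := by
  have h := ShStab28.hilb_spec k hL hM n
  rw [hilb_line k hd hL hM] at h
  simp only [Polynomial.eval_add, Polynomial.eval_mul, Polynomial.eval_C, Polynomial.eval_X] at h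
  show (Curv2.euler k X (ShStab.twist X L M n) : ℚ) = _
  rw [h]
  ring

end Groth.Agent.Comp17
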