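import Groth.Agent.Lib.Comp17.Num

/-!
# Additivity on clopen pieces; semistability component by component
-/

set_option autoImplicit false
set_option linter.style.haveILetI false
set_option backward.isDefEq.respectTransparency false
set_option backward.isDefEq.respectTransparency.types false
set_option maxHeartbeats 1000000

universe u

open CategoryTheory CategoryTheory.Limits AlgebraicGeometry TopologicalSpace

noncomputable section

namespace Groth.Agent.Comp17

open Groth.Agent Groth.Agent.M1 Groth.Agent.CurveCoh17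

section Pieces

variable {X : Scheme.{u}} {W B : X.Opens}

theorem isIso_pieceMap_θ (hB : IsClosed (B : Set X)) (hle : B ≤ W) (M : X.Modules) :
    IsIso (pieceMap B (θ W M)) := by
  refine isIso_of_bijective_or _ fun x => ?_
  by_cases hx : x ∈ B
  · refine Or.inl ?_
    have h1 : Function.Bijective (stalkLin (θ B M ≫ pieceMap B (θ W M)) x) := by
      rw [θ_natural]
      have : ⇑(stalkLin (θ W M ≫ θ B (piece W M)) x) = stalkLin (θ B (piece W M)) x ∘ stalkLin (θ W M) x :=
        funext fun a => stalkLin_comp _ _ x a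
      rw [this]
      exact (bijective_θ B _ hx).comp (bijective_θ W M (hle hx))
    have h2 : ⇑(stalkLin (θ B M ≫ pieceMap B (θ W M)) x) = stalkLin (pieceMap B (θ W M)) x ∘ stalkLin (θ B M) x :=
      funext fun a => stalkLin_comp _ _ x a
    rw [h2] at h1
    exact (Function.Bijective.of_comp_iff _ (bijective_θ B M hx)).1 h1
  · exact Or.inr ⟨subsingleton_piece B hB _ hx, subsingleton_piece B hB _ hx⟩

theorem nonempty_piece_piece {A : X.Opens} (hA : IsClosed (A : Set X)) (hW : IsClosed (W : Set X))
    (hB : IsClosed (B : Set X)) (hBA : B ≤ A) (hBW : B ≤ W) (h : ∀ x, x ∈ A → x ∈ W → x ∈ B) (M : X.Modules) :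
    Nonempty (piece A (piece W M) ≅ piece B M) := by
  obtain ⟨e⟩ := nonempty_piece_iso hA hB hBA (piece W M) fun x hx hxB =>
    subsingleton_piece W hW M fun hxW => hxB (h x hx hxW)
  haveI := isIso_pieceMap_θ hB hBW M
  exact ⟨e ≪≫ (asIso (pieceMap B (θ W M))).symm⟩

theorem isZero_piece_empty [IsLocallyNoetherian X] (hW : IsClosed (W : Set X)) (he : (W : Set X) = ∅)
    (M : X.Modules) : IsZero (piece W M) :=
  Snapper.isZero_of_support_empty (Set.eq_empty_of_forall_notMem fun x hx =>
    hx (subsingleton_piece W hW M fun h => Set.eq_empty_iff_forall_notMem.1 he x h))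

theorem support_piece_subset (hW : IsClosed (W : Set X)) (M : X.Modules) :
    CohB1.support (piece W M) ⊆ CohB1.support M := fun x hx hM => hx (by
  by_cases h : x ∈ W
  · haveI : Subsingleton (M.presheaf.stalk x : Type u) := hM
    exact (bijective_θ W M h).2.subsingleton
  · exact subsingleton_piece W hW M h)

/-- The pieces of a disjoint union. -/
theorem exists_split_union [IsLocallyNoetherian X] {W₁ W₂ : X.Opens} (hW : IsClosed (W : Set X))
    (h₁ : IsClosed (W₁ : Set X)) (h₂ : IsClosed (W₂ : Set X)) (heq : (W : Set X) = (W₁ : Set X) ∪ (W₂ : Set X))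
    (hd : Disjoint (W₁ : Set X) (W₂ : Set X)) (M : X.Modules) :
    ∃ (A C : X.Modules) (f : A ⟶ piece W M) (g : piece W M ⟶ C) (w : f ≫ g = 0),
      (ShortComplex.mk f g w).ShortExact ∧ Nonempty (A ≅ piece W₂ M) ∧ Nonempty (C ≅ piece W₁ M) := by
  let V : X.Opens := ⟨(W₁ : Set X)ᶜ, h₁.isOpen_compl⟩
  have hV : IsClosed (V : Set X) := W₁.isOpen.isClosed_compl
  obtain ⟨j, h, -, hS⟩ := exists_split W₁ V h₁ hV (fun x => em _) (fun x hx hn => hn hx) (piece W M)
  have hW1 : W₁ ≤ W := fun x hx => show x ∈ (W : Set X) from heq ▸ Or.inl hx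
  have hW2 : W₂ ≤ W := fun x hx => show x ∈ (W : Set X) from heq ▸ Or.inr hx
  refine ⟨_, _, j, θ W₁ (piece W M), h, hS, nonempty_piece_piece hV hW h₂ (fun x hx hx1 => Set.disjoint_left.1 hd hx1 hx) hW2 ?_ M,
    nonempty_piece_piece h₁ hW h₁ le_rfl hW1 (fun x hx _ => hx) M⟩
  intro x hxV hxW
  have h' : x ∈ (W₁ : Set X) ∪ (W₂ : Set X) := heq ▸ hxW
  exact h'.resolve_left hxV

theorem exists_mono_piece [IsLocallyNoetherian X] (hW : IsClosed (W : Set X)) (M : X.Modules) :
    ∃ j : piece W M ⟶ M, Mono j := by
  let V : X.Opens := ⟨(W : Set X)ᶜ, hW.isOpen_compl⟩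
  obtain ⟨j, -, hj, -⟩ := exists_split V W W.isOpen.isClosed_compl hW (fun x => (em _).symm) (fun x hx hn => hx hn) M
  exact ⟨j, hj⟩

end Pieces

section Numbers

variable {k : Type u} [Field k] {X : Scheme.{u}} [X.Over (Spec (CommRingCat.of k))]
  [IsProper (X ↘ Spec (CommRingCat.of k))] {L : X.Modules} (hd : topologicalKrullDim X = 1)

include hd

theorem piece_add (hL : PicF.IsInvertible L) {W W₁ W₂ : X.Opens} (hW : IsClosed (W : Set X))
    (h₁ : IsClosed (W₁ : Set X)) (h₂ : IsClosed (W₂ : Set X)) (heq : (W : Set X) = (W₁ : Set X) ∪ (W₂ : Set X))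
    (hdj : Disjoint (W₁ : Set X) (W₂ : Set X)) {M : X.Modules} (hM : Coh.IsCoh M) :
    e k (piece W M) = e k (piece W₁ M) + e k (piece W₂ M) ∧
      a k L (piece W M) = a k L (piece W₁ M) + a k L (piece W₂ M) := by
  haveI : IsNoetherian X := VB17.isNoetherian_of_over (k := k) (X := X)
  obtain ⟨A, C, f, g, hfg, hS, ⟨i₂⟩, ⟨i₁⟩⟩ := exists_split_union hW h₁ h₂ heq hdj M
  obtain ⟨he, ha⟩ := e_add k hd hL hS (CohFound.isCoh_of_iso i₂.symm (isCoh_piece W₂ h₂ hM))
    (isCoh_piece W hW hM) (CohFound.isCoh_of_iso i₁.symm (isCoh_piece W₁ h₁ hM))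
  refine ⟨?_, ?_⟩
  · rw [he, e_iso k i₂, e_iso k i₁, add_comm]
  · rw [ha, a_iso k L i₂, a_iso k L i₁, add_comm]

theorem piece_empty (hL : PicF.IsInvertible L) {W : X.Opens} (hW : IsClosed (W : Set X))
    (he : (W : Set X) = ∅) (M : X.Modules) : e k (piece W M) = 0 ∧ a k L (piece W M) = 0 := by
  haveI : IsNoetherian X := VB17.isNoetherian_of_over (k := k) (X := X)
  exact zero_vals k hd hL (isZero_piece_empty hW he M)

theorem piece_top (M : X.Modules) : e k (piece ⊤ M) = e k M ∧ a k L (piece ⊤ M) = a k L M := by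
  obtain ⟨i⟩ := nonempty_piece_top M
  exact ⟨(e_iso k i).symm, (a_iso k L i).symm⟩

/-- A proportionality holding on connected pieces holds globally. -/
theorem linear_of_components (hL : PicF.IsInvertible L) {M : X.Modules} (hM : Coh.IsCoh M) (p q : ℚ)
    (h : ∀ W : X.Opens, IsClosed (W : Set X) → _root_.IsConnected (W : Set X) →
      p * e k (piece W M) ≤ q * a k L (piece W M)) :
    p * e k M ≤ q * a k L M := by
  haveI : IsNoetherian X := VB17.isNoetherian_of_over (k := k) (X := X)
  have key : ∀ W : X.Opens, IsClosed (W : Set X) → p * e k (piece W M) ≤ q * a k L (piece W M) := by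
    refine fun W hW => clopen_induction (P := fun W => p * e k (piece W M) ≤ q * a k L (piece W M)) ?_ h ?_ W hW
    · intro W hW he
      obtain ⟨h1, h2⟩ := piece_empty (k := k) hd hL hW he M
      rw [h1, h2, mul_zero, mul_zero]
    · intro W W₁ W₂ hW h₁ h₂ heq hdj i1 i2
      obtain ⟨he, ha⟩ := piece_add (k := k) hd hL hW h₁ h₂ heq hdj hM
      rw [he, ha, mul_add, mul_add]
      exact add_le_add i1 i2
  have := key ⊤ isClosed_univ
  rwa [(piece_top (k := k) (L := L) hd M).1, (piece_top (k := k) (L := L) hd M).2] at this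

/-- A nonzero coherent module with one-dimensional nonzero pieces has one-dimensional support. -/
theorem dim_of_components [IsNoetherian X] {M : X.Modules} (h0 : ¬ IsZero M)
    (h : ∀ W : X.Opens, IsClosed (W : Set X) → _root_.IsConnected (W : Set X) → ¬ IsZero (piece W M) →
      topologicalKrullDim (CohB1.support (piece W M)) = ((1 : ℕ) : WithBot ℕ∞)) :
    topologicalKrullDim (CohB1.support M) = ((1 : ℕ) : WithBot ℕ∞) := by
  let P : X.Opens → Prop := fun W => ¬ IsZero (piece W M) →
    topologicalKrullDim (CohB1.support (piece W M)) = ((1 : ℕ) : WithBot ℕ∞)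
  have key : ∀ W : X.Opens, IsClosed (W : Set X) → P W := by
    refine fun W hW => clopen_induction (P := P) (fun W hW he hn => absurd (isZero_piece_empty hW he M) hn) h ?_ W hW
    intro W W₁ W₂ hW h₁ h₂ heq hdj i1 i2 hn
    have hsub : ∀ V : X.Opens, IsClosed (V : Set X) → V ≤ W →
        CohB1.support (piece V M) ⊆ CohB1.support (piece W M) := fun V hV hle x hx hzero => hx (by
      by_cases hxV : x ∈ V
      · haveI : Subsingleton ((piece W M).presheaf.stalk x : Type u) := hzero
        haveI : Subsingleton (M.presheaf.stalk x : Type u) := (bijective_θ W M (hle hxV)).1.subsingleton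
        exact (bijective_θ V M hxV).2.subsingleton
      · exact subsingleton_piece V hV M hxV)
    by_cases hz : IsZero (piece W₁ M)
    · by_cases hz2 : IsZero (piece W₂ M)
      · refine absurd ?_ hn
        obtain ⟨A, C, f, g, hfg, hS, ⟨e₂⟩, ⟨e₁⟩⟩ := exists_split_union hW h₁ h₂ heq hdj M
        haveI := hS.mono_f
        haveI := hS.epi_g
        have hg : g = 0 := (hz.of_iso e₁).eq_of_tgt _ _
        haveI : Epi f := hS.exact.epi_f hg
        exact IsZero.of_epi f (hz2.of_iso e₂)
      · exact dim_of_sub hd (hsub W₂ h₂ fun x hx => show x ∈ (W : Set X) from heq ▸ Or.inr hx) (i2 hz2)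
    · exact dim_of_sub hd (hsub W₁ h₁ fun x hx => show x ∈ (W : Set X) from heq ▸ Or.inl hx) (i1 hz)
  obtain ⟨i⟩ := nonempty_piece_top M
  exact dim_of_sub hd (support_piece_subset (W := ⊤) isClosed_univ M)
    (key ⊤ isClosed_univ fun hz => h0 (hz.of_iso i))

theorem isPure_of_mono {E E' : X.Modules} (j : E' ⟶ E) [Mono j] (h : ShStab.IsPure X E 1) :
    ShStab.IsPure X E' 1 := fun F ι _ hF h0 => h F (ι ≫ j) inferInstance hF h0

/-- On a semistable module every piece has the global reduced polynomial. -/
theorem piece_eq (hL : CohB1.IsAmple L) {E : X.Modules} (h : ShStab.IsSemistable k X L E 1) {U : X.Opens}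
    (hU : IsClosed (U : Set X)) : a k L E * e k (piece U E) = a k L (piece U E) * e k E := by
  haveI : IsNoetherian X := VB17.isNoetherian_of_over (k := k) (X := X)
  obtain ⟨hE, -, -, hs⟩ := (isSemistable_iff k hd hL.1 E).1 h
  let V : X.Opens := ⟨(U : Set X)ᶜ, hU.isOpen_compl⟩
  have hV : IsClosed (V : Set X) := U.isOpen.isClosed_compl
  obtain ⟨he, ha⟩ := piece_add (k := k) (L := L) hd hL.1 (W := ⊤) (W₁ := U) (W₂ := V) isClosed_univ hU hV
    (Set.union_compl_self _).symm disjoint_compl_right hE
  rw [(piece_top (k := k) (L := L) hd E).1] at he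
  rw [(piece_top (k := k) (L := L) hd E).2] at ha
  have hle : ∀ W : X.Opens, IsClosed (W : Set X) →
      a k L E * e k (piece W E) ≤ a k L (piece W E) * e k E := fun W hW => by
    by_cases hz : IsZero (piece W E)
    · obtain ⟨h1, h2⟩ := zero_vals k hd hL.1 hz
      rw [h1, h2, mul_zero, zero_mul]
    · obtain ⟨j, hj⟩ := exists_mono_piece hW E
      exact hs _ j hj (isCoh_piece W hW hE) hz
  have h1 := hle U hU
  have h2 := hle V hV
  refine le_antisymm h1 ?_
  have : a k L E * e k E = a k L (piece U E) * e k E + a k L (piece V E) * e k E := by rw [← add_mul, ← ha]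
  have h3 : a k L E * e k E = a k L E * e k (piece U E) + a k L E * e k (piece V E) := by rw [← mul_add, ← he]
  linarith

theorem a_pos_of_pure (hL : CohB1.IsAmple L) {E : X.Modules} (hE : Coh.IsCoh E) (h : ShStab.IsPure X E 1)
    (h0 : ¬ IsZero E) : 0 < a k L E :=
  a_pos k hd hL hE (h E (𝟙 E) inferInstance hE h0)

/-- Semistability is checked on the connected pieces. -/
theorem isSemistable_iff_pieces (hL : CohB1.IsAmple L) {E : X.Modules} (hE : Coh.IsCoh E) (h0 : ¬ IsZero E) :
    ShStab.IsSemistable k X L E 1 ↔ ∀ U : X.Opens, IsClosed (U : Set X) → _root_.IsConnected (U : Set X) →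
      ¬ IsZero (piece U E) →
        ShStab.IsSemistable k X L (piece U E) 1 ∧ e k (piece U E) * a k L E = e k E * a k L (piece U E) := by
  haveI : IsNoetherian X := VB17.isNoetherian_of_over (k := k) (X := X)
  constructor
  · intro h U hU _ hn
    obtain ⟨-, -, hp, hs⟩ := (isSemistable_iff k hd hL.1 E).1 h
    have heq := piece_eq hd hL h hU
    refine ⟨(isSemistable_iff k hd hL.1 _).2 ⟨isCoh_piece U hU hE, hn, ?_, fun F ι hι hF hF0 => ?_⟩, by linarith⟩
    · obtain ⟨j, hj⟩ := exists_mono_piece hU E
      exact isPure_of_mono hd j hp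
    · obtain ⟨j, hj⟩ := exists_mono_piece hU E
      have hF' := hs F (ι ≫ j) inferInstance hF hF0
      have haE := a_pos_of_pure (k := k) hd hL hE hp h0
      have haU : 0 < a k L (piece U E) := a_pos_of_pure (k := k) hd hL (isCoh_piece U hU hE) (isPure_of_mono hd j hp) hn
      refine le_of_mul_le_mul_left ?_ haE
      calc a k L E * (a k L (piece U E) * e k F) = a k L (piece U E) * (a k L E * e k F) := by ring
        _ ≤ a k L (piece U E) * (a k L F * e k E) := mul_le_mul_of_nonneg_left hF' haU.le
        _ = a k L F * (a k L (piece U E) * e k E) := by ring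
        _ = a k L F * (a k L E * e k (piece U E)) := by rw [heq]
        _ = a k L E * (a k L F * e k (piece U E)) := by ring
  · intro h
    refine (isSemistable_iff k hd hL.1 E).2 ⟨hE, h0, fun F ι hι hF hF0 => ?_, fun F ι hι hF hF0 => ?_⟩
    · refine dim_of_components hd hF0 fun W hW hc hn => ?_
      haveI := hι
      haveI := injective_pieceMap W hW ι
      have hn' : ¬ IsZero (piece W E) := fun hz => hn (IsZero.of_mono (pieceMap W ι) hz)
      exact (h W hW hc hn').1.2.2.1 _ (pieceMap W ι) inferInstance (isCoh_piece W hW hF) hn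
    · have := linear_of_components (k := k) hd hL.1 hF (a k L E) (e k E) fun W hW hc => by
        by_cases hn : IsZero (piece W F)
        · obtain ⟨h1, h2⟩ := zero_vals k hd hL.1 hn
          rw [h1, h2, mul_zero, mul_zero]
        haveI := hι
        haveI := injective_pieceMap W hW ι
        have hn' : ¬ IsZero (piece W E) := fun hz => hn (IsZero.of_mono (pieceMap W ι) hz)
        obtain ⟨hsW, heW⟩ := h W hW hc hn'
        obtain ⟨hcW, -, hpW, hs⟩ := (isSemistable_iff k hd hL.1 _).1 hsW
        have h1 := hs _ (pieceMap W ι) inferInstance (isCoh_piece W hW hF) hn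
        have haW := a_pos_of_pure (k := k) hd hL hcW hpW hn'
        refine le_of_mul_le_mul_left ?_ haW
        rcases le_or_gt 0 (a k L E) with hp | hp
        · calc a k L (piece W E) * (a k L E * e k (piece W F))
              = a k L E * (a k L (piece W E) * e k (piece W F)) := by ring
            _ ≤ a k L E * (a k L (piece W F) * e k (piece W E)) := mul_le_mul_of_nonneg_left h1 hp
            _ = a k L (piece W F) * (e k (piece W E) * a k L E) := by ring
            _ = a k L (piece W F) * (e k E * a k L (piece W E)) := by rw [heW]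
            _ = a k L (piece W E) * (e k E * a k L (piece W F)) := by ring
        · exfalso
          have hd' := dim_of_sub hd (support_piece_subset hW E) (hpW _ (𝟙 _) inferInstance hcW hn')
          exact absurd (a_pos k hd hL hE hd') (not_lt.2 hp.le)
      linarith

end Numbers

end Groth.Agent.Comp17
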