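import Groth.Agent.Lib.Comp17.Comp
import Groth.Agent.Lib.CurveCoh17.Degree
import Groth.Agent.Lib.VB17.Proper
import Groth.Agent.Lib.VB17.Sub
import Groth.Agent.Lib.TensorMod.Restrict
import Groth.Agent.Lib.TensorMod.Invertible
import Groth.Agent.Lib.CurveCoh17.TensorExact

/-!
# Ranks and Euler characteristics on a connected piece of a smooth curve
-/

set_option autoImplicit false
set_option linter.style.haveILetI false
set_option backward.isDefEq.respectTransparency false
set_option backward.isDefEq.respectTransparency.types false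
set_option maxHeartbeats 1000000

universe u

open CategoryTheory CategoryTheory.Limits AlgebraicGeometry TopologicalSpace
open scoped TensorProduct

noncomputable section

namespace Groth.Agent.Comp17

open Groth.Agent Groth.Agent.M1 Groth.Agent.CurveCoh17

variable {k : Type u} [Field k] {X : Scheme.{u}} [X.Over (Spec (CommRingCat.of k))]

/-- A piece as a scheme over the field. -/
abbrev overU (U : X.Opens) : (U : Scheme.{u}).Over (Spec (CommRingCat.of k)) :=
  ⟨U.ι ≫ (X ↘ Spec (CommRingCat.of k))⟩

/-- The twist of a piece is the piece of the twist. -/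
theorem nonempty_piece_tensor (U : X.Opens) (hU : IsClosed (U : Set X)) (M N : X.Modules) :
    Nonempty (CohB1.tensorMod (piece U M) N ≅ piece U (CohB1.tensorMod M N)) := by
  let T := CohB1.tensorMod (piece U M) N
  let φ : CohB1.tensorMod M N ⟶ T := M2.tensorMap (θ U M) (𝟙 N)
  haveI : IsIso (θ U T) := isIso_of_bijective_or _ fun x => by
    by_cases hx : x ∈ U
    · exact Or.inl (bijective_θ U T hx)
    · refine Or.inr ⟨?_, subsingleton_piece U hU _ hx⟩
      haveI := subsingleton_piece U hU M hx
      refine @Equiv.subsingleton _ _ (M2.stalkEquiv (piece U M) N x).toEquiv ?_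
      refine subsingleton_of_forall_eq 0 fun z => ?_
      induction z using TensorProduct.induction_on with
      | zero => rfl
      | tmul a b => rw [Subsingleton.elim a 0, TensorProduct.zero_tmul]
      | add a b ha hb => rw [ha, hb, add_zero]
  haveI : IsIso (pieceMap U φ) := isIso_of_bijective_or _ fun x => by
    by_cases hx : x ∈ U
    · refine Or.inl ?_
      have hφ : Function.Bijective (stalkLin φ x) := by
        have h1 : ⇑(stalkLin φ x) = (M2.stalkEquiv (piece U M) N x).symm ∘
            (LinearMap.rTensor (N.presheaf.stalk x) (stalkLin (θ U M) x)) ∘ M2.stalkEquiv M N x := funext fun a => by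
          rw [Function.comp_apply, Function.comp_apply, ← stalkEquiv_natural, LinearEquiv.symm_apply_apply]
        rw [h1]
        refine (LinearEquiv.bijective _).comp (Function.Bijective.comp ?_ (LinearEquiv.bijective _))
        exact (LinearEquiv.rTensor (N.presheaf.stalk x)
          (LinearEquiv.ofBijective (stalkLin (θ U M) x) (bijective_θ U M hx))).bijective
      have h1 : Function.Bijective (stalkLin (θ U _ ≫ pieceMap U φ) x) := by
        rw [θ_natural]
        have : ⇑(stalkLin (φ ≫ θ U T) x) = stalkLin (θ U T) x ∘ stalkLin φ x :=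
          funext fun a => stalkLin_comp _ _ x a
        rw [this]
        exact (bijective_θ U T hx).comp hφ
      have h2 : ⇑(stalkLin (θ U (CohB1.tensorMod M N) ≫ pieceMap U φ) x) =
          stalkLin (pieceMap U φ) x ∘ stalkLin (θ U (CohB1.tensorMod M N)) x := funext fun a => stalkLin_comp _ _ x a
      rw [h2] at h1
      exact (Function.Bijective.of_comp_iff _ (bijective_θ U _ hx)).1 h1
    · exact Or.inr ⟨subsingleton_piece U hU _ hx, subsingleton_piece U hU _ hx⟩
  exact ⟨asIso (θ U T) ≪≫ (asIso (pieceMap U φ)).symm⟩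

variable [IsProper (X ↘ Spec (CommRingCat.of k))]

theorem e_piece (U : X.Opens) (hU : IsClosed (U : Set X)) {M : X.Modules} (hM : Coh.IsQCoh M) :
    letI := overU (k := k) U
    e k (piece U M) = e k (M.restrict U.ι) := by
  letI := overU (k := k) U
  haveI : IsClosedImmersion U.ι := IsClosedImmersion.of_isPreimmersion _ (by
    rw [Scheme.Opens.range_ι]; exact hU)
  exact congrArg (fun z : ℤ => (z : ℚ))
    (AmpleFin18.euler_push (k := k) U.ι rfl (M.restrict U.ι) (M1.isQCoh_restrict hM U.ι))

theorem isProper_piece (U : X.Opens) (hU : IsClosed (U : Set X)) :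
    letI := overU (k := k) U
    IsProper ((U : Scheme.{u}) ↘ Spec (CommRingCat.of k)) := by
  letI := overU (k := k) U
  haveI : IsClosedImmersion U.ι := IsClosedImmersion.of_isPreimmersion _ (by
    rw [Scheme.Opens.range_ι]; exact hU)
  exact inferInstanceAs (IsProper (U.ι ≫ (X ↘ Spec (CommRingCat.of k))))

variable [Smooth (X ↘ Spec (CommRingCat.of k))] (hd : topologicalKrullDim X = 1)

include k hd

theorem pieceCurve (U : X.Opens) (hU : IsClosed (U : Set X)) (hc : _root_.IsConnected (U : Set X))
    (hpure : ∀ x : X, ¬ IsOpen ({x} : Set X)) :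
    letI := overU (k := k) U
    IsIntegral (U : Scheme.{u}) ∧ CurveLike k (U : Scheme.{u}) ∧ topologicalKrullDim (U : Scheme.{u}) = 1 ∧
      ∀ x : (U : Scheme.{u}), IsRegularLocalRing ((U : Scheme.{u}).presheaf.stalk x) := by
  letI := overU (k := k) U
  haveI := isProper_piece (k := k) U hU
  haveI hsm : Smooth ((U : Scheme.{u}) ↘ Spec (CommRingCat.of k)) :=
    inferInstanceAs (Smooth (U.ι ≫ (X ↘ Spec (CommRingCat.of k))))
  haveI : IsNoetherian (U : Scheme.{u}) := VB17.isNoetherian_of_over (k := k)
  haveI : ConnectedSpace (U : Scheme.{u}) := Subtype.connectedSpace hc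
  haveI : IsIntegral (U : Scheme.{u}) := VB17.isIntegral_of_connected fun x =>
    SmoothReg17.isDomain_stalk ((U : Scheme.{u}) ↘ Spec (CommRingCat.of k)) x
  have hdim : topologicalKrullDim (U : Scheme.{u}) = 1 := by
    refine le_antisymm ((Topology.IsInducing.topologicalKrullDim_le (f := U.ι)
      U.ι.isOpenEmbedding.isInducing).trans hd.le) ?_
    by_contra hlt
    rw [not_le] at hlt
    -- a connected zero-dimensional noetherian space is a point
    have hcl : ∀ x : (U : Scheme.{u}), x = genericPoint (U : Scheme.{u}) := fun x => by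
      by_contra hne
      have hlts : (⟨closure {x}, isIrreducible_singleton.closure, isClosed_closure⟩ : IrreducibleCloseds (U : Scheme.{u})) <
          ⟨closure {genericPoint (U : Scheme.{u})}, isIrreducible_singleton.closure, isClosed_closure⟩ := by
        refine lt_of_le_of_ne ?_ fun h => ?_
        · show closure {x} ⊆ closure {genericPoint (U : Scheme.{u})}
          exact closure_minimal (Set.singleton_subset_iff.2 (genericPoint_specializes x).mem_closure) isClosed_closure
        · have h' : closure {x} = closure {genericPoint (U : Scheme.{u})} := congrArg IrreducibleCloseds.carrier h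
          exact hne ((specializes_iff_mem_closure.2 (h' ▸ subset_closure rfl)).antisymm (genericPoint_specializes x)).eq
      have hpos : (0 : WithBot ℕ∞) < Order.krullDim (IrreducibleCloseds (U : Scheme.{u})) :=
        Order.krullDim_pos_iff.2 ⟨_, _, hlts⟩
      have h1 : (1 : WithBot ℕ∞) ≤ topologicalKrullDim (U : Scheme.{u}) := by
        show (1 : WithBot ℕ∞) ≤ Order.krullDim (IrreducibleCloseds (U : Scheme.{u}))
        revert hpos
        generalize Order.krullDim (IrreducibleCloseds (U : Scheme.{u})) = t
        intro h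
        induction t using WithBot.recBotCoe with
        | bot => exact absurd h (by simp)
        | coe n => exact WithBot.one_le_coe.2 (Order.one_le_iff_pos.2 (WithBot.coe_pos.1 h))
      exact absurd (lt_of_le_of_lt h1 hlt) (lt_irrefl _)
    obtain ⟨x, hx⟩ := hc.nonempty
    refine hpure x ?_
    have : ({x} : Set X) = (U : Set X) := Set.eq_singleton_iff_unique_mem.2 ⟨hx, fun y hy =>
      congrArg Subtype.val ((hcl ⟨y, hy⟩).trans (hcl ⟨x, hx⟩).symm)⟩ |>.symm
    rw [this]
    exact U.isOpen
  exact ⟨inferInstance, VB17.curveLike hdim, hdim,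
    fun x => SmoothReg17.isRegularLocalRing_stalk ((U : Scheme.{u}) ↘ Spec (CommRingCat.of k)) x⟩

theorem exists_rank (U : X.Opens) (hU : IsClosed (U : Set X)) (hc : _root_.IsConnected (U : Set X))
    (hpure : ∀ x : X, ¬ IsOpen ({x} : Set X)) {E : X.Modules} (hE : FlatMod.IsFinLocFree E)
    (h0 : ∀ x : X, ¬ Subsingleton (E.presheaf.stalk x)) :
    ∃ r : ℕ, 0 < r ∧ FlatMod.IsFinLocFreeOfRank r (E.restrict U.ι) := by
  letI := overU (k := k) U
  obtain ⟨hint, -, -, -⟩ := pieceCurve (k := k) hd U hU hc hpure
  haveI := hint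
  obtain ⟨r, hr⟩ := VB17.exists_rank_of_isFinLocFree (M2.isFinLocFree_restrict U.ι hE)
  refine ⟨r, Nat.pos_of_ne_zero fun h => ?_, hr⟩
  subst h
  obtain ⟨x, hx⟩ := hc.nonempty
  have hz : IsZero (piece U E) :=
    (Scheme.Modules.pushforward U.ι).map_isZero (VB17.isZero_of_rank_zero hr)
  haveI : Subsingleton ((piece U E).presheaf.stalk x : Type u) :=
    AddCommGrpCat.subsingleton_of_isZero ((M1.stalkAb x).map_isZero hz)
  exact h0 x (bijective_θ U E hx).1.subsingleton

/-- The tensor formulas on a connected piece. -/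
theorem piece_tensor (U : X.Opens) (hU : IsClosed (U : Set X)) (hc : _root_.IsConnected (U : Set X))
    (hpure : ∀ x : X, ¬ IsOpen ({x} : Set X)) {L : X.Modules} (hL : PicF.IsInvertible L)
    {E F : X.Modules} {r s : ℕ} (hE : FlatMod.IsFinLocFree E) (hF : FlatMod.IsFinLocFree F)
    (hEr : FlatMod.IsFinLocFreeOfRank r (E.restrict U.ι)) (hFs : FlatMod.IsFinLocFreeOfRank s (F.restrict U.ι)) :
    a k L (piece U E) = r * a k L (piece U (Coh.structureModule X)) ∧
    e k (piece U (CohB1.tensorMod E F)) =
      s * e k (piece U E) + r * e k (piece U F) - r * s * e k (piece U (Coh.structureModule X)) ∧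
    a k L (piece U (CohB1.tensorMod E F)) = r * s * a k L (piece U (Coh.structureModule X)) := by
  letI := overU (k := k) U
  obtain ⟨hint, hX, -, -⟩ := pieceCurve (k := k) hd U hU hc hpure
  haveI := hint
  have hEF := M2.isFinLocFree_tensor hE hF
  have hLf := M2.isFinLocFree_of_ofRank ((M2.isInvertible_iff_isFinLocFreeOfRank_one L).1 hL)
  have hLr : FlatMod.IsFinLocFreeOfRank 1 (L.restrict U.ι) := by
    exact (M2.isInvertible_iff_isFinLocFreeOfRank_one _).1 (M2.isInvertible_of_iso
      ((Scheme.Modules.restrictFunctorIsoPullback U.ι).app L).symm (PicLoc.isInvertible_pullback U.ι hL))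
  have hOr : FlatMod.IsFinLocFreeOfRank 1 ((Coh.structureModule X).restrict U.ι) :=
    (M2.isInvertible_iff_isFinLocFreeOfRank_one _).1 (M2.isInvertible_of_iso
      ((Scheme.Modules.restrictFunctorIsoPullback U.ι).app _).symm
      (PicLoc.isInvertible_pullback U.ι (PicLoc.isInvertible_structureModule X)))
  have hq : ∀ {M : X.Modules}, FlatMod.IsFinLocFree M → Coh.IsQCoh M := fun h => M2.isQCoh_of_isFinLocFree h
  have ha : ∀ {M : X.Modules} {n : ℕ}, FlatMod.IsFinLocFree M → FlatMod.IsFinLocFreeOfRank n (M.restrict U.ι) →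
      a k L (piece U M) = n * ((Curv2.euler k (U : Scheme.{u}) (L.restrict U.ι) : ℚ) -
        (Curv2.euler k (U : Scheme.{u}) (Coh.structureModule (U : Scheme.{u})) : ℚ)) := fun {M n} hM hMr => by
    obtain ⟨i⟩ := nonempty_piece_tensor U hU M L
    have h1 := e_piece (k := k) U hU (hq (M2.isFinLocFree_tensor hM hLf))
    have h2 := e_piece (k := k) U hU (hq hM)
    unfold e at h1 h2
    rw [a, CurveCoh17.euler_iso i, h1, h2, CurveCoh17.euler_iso (M2.restrictTensorIso U.ι M L),
      hX.euler_tensor hMr hLr]
    push_cast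
    ring
  have hOf := M2.isFinLocFree_of_ofRank ((M2.isInvertible_iff_isFinLocFreeOfRank_one _).1
    (PicLoc.isInvertible_structureModule X))
  refine ⟨?_, ?_, ?_⟩
  · rw [ha hE hEr, ha hOf hOr, Nat.cast_one, one_mul]
  · rw [e_piece U hU (hq hEF), e_piece U hU (hq hE), e_piece U hU (hq hF), e_piece U hU (hq hOf)]
    unfold e
    rw [CurveCoh17.euler_iso (M2.restrictTensorIso U.ι E F), hX.euler_tensor hEr hFs,
      CurveCoh17.euler_iso (Scheme.Modules.restrictUnitIso U.ι)]
    push_cast
    rfl
  · obtain ⟨i⟩ := nonempty_piece_tensor U hU (CohB1.tensorMod E F) L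
    have h1 := e_piece (k := k) U hU (hq (M2.isFinLocFree_tensor hEF hLf))
    have h2 := e_piece (k := k) U hU (hq hEF)
    unfold e at h1 h2
    rw [ha hOf hOr, a, CurveCoh17.euler_iso i, h1, h2,
      CurveCoh17.euler_iso (M2.restrictTensorIso U.ι (CohB1.tensorMod E F) L ≪≫
        M2.tensorIso (M2.restrictTensorIso U.ι E F) (Iso.refl _)),
      CurveCoh17.euler_iso (M2.restrictTensorIso U.ι E F)]
    rw [hX.euler_tensor (M2.isFinLocFreeOfRank_tensor hEr hFs) hLr, hX.euler_tensor hEr hFs]
    push_cast
    ring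

omit [Smooth (X ↘ Spec (CommRingCat.of k))] in
theorem eq_of_components {L : X.Modules} (hL : PicF.IsInvertible L) {M : X.Modules} (hM : Coh.IsCoh M) (p q : ℚ)
    (h : ∀ W : X.Opens, IsClosed (W : Set X) → _root_.IsConnected (W : Set X) →
      p * e k (piece W M) = q * a k L (piece W M)) :
    p * e k M = q * a k L M := by
  refine le_antisymm (linear_of_components hd hL hM p q fun W hW hc => (h W hW hc).le) ?_
  have := linear_of_components (k := k) hd hL hM (-p) (-q) fun W hW hc => by
    rw [neg_mul, neg_mul, h W hW hc]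
  rw [neg_mul, neg_mul] at this
  linarith

omit [Smooth (X ↘ Spec (CommRingCat.of k))] in
theorem pos_of_components {L : X.Modules} (hL : PicF.IsInvertible L) {M : X.Modules} (hM : Coh.IsCoh M)
    (h : ∀ W : X.Opens, IsClosed (W : Set X) → _root_.IsConnected (W : Set X) → 0 < a k L (piece W M)) :
    0 < a k L M := by
  haveI : IsNoetherian X := VB17.isNoetherian_of_over (k := k) (X := X)
  have hne : Nonempty X := by
    by_contra hn
    haveI := not_nonempty_iff.1 hn
    haveI : IsEmpty (IrreducibleCloseds X) := ⟨fun C => isEmptyElim C.isIrreducible.nonempty.some⟩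
    have : topologicalKrullDim X = ⊥ := Order.krullDim_eq_bot
    rw [hd] at this
    exact WithBot.one_ne_bot this
  have key : ∀ W : X.Opens, IsClosed (W : Set X) → (W : Set X).Nonempty → 0 < a k L (piece W M) := by
    refine fun W hW => clopen_induction (P := fun W => (W : Set X).Nonempty → 0 < a k L (piece W M))
      (fun W _ he hn => absurd he hn.ne_empty) (fun W hW hc _ => h W hW hc) ?_ W hW
    intro W W₁ W₂ hW h₁ h₂ heq hdj i1 i2 hn
    rw [(piece_add (k := k) hd hL hW h₁ h₂ heq hdj hM).2]
    rcases (W₁ : Set X).eq_empty_or_nonempty with e1 | n1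
    · rw [(piece_empty (k := k) hd hL h₁ e1 M).2, zero_add]
      exact i2 (by rwa [heq, e1, Set.empty_union] at hn)
    · rcases (W₂ : Set X).eq_empty_or_nonempty with e2 | n2
      · rw [(piece_empty (k := k) hd hL h₂ e2 M).2, add_zero]
        exact i1 n1
      · exact add_pos (i1 n1) (i2 n2)
  have := key ⊤ isClosed_univ ⟨hne.some, trivial⟩
  rwa [(piece_top (k := k) (L := L) hd M).2] at this

theorem a_piece_pos (U : X.Opens) (hU : IsClosed (U : Set X)) (hc : _root_.IsConnected (U : Set X))
    (hpure : ∀ x : X, ¬ IsOpen ({x} : Set X)) {L : X.Modules} (hL : CohB1.IsAmple L)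
    {E : X.Modules} (hE : FlatMod.IsFinLocFree E) (h0 : ∀ x : X, ¬ Subsingleton (E.presheaf.stalk x))
    (hs : ShStab.IsSemistable k X L E 1) :
    0 < a k L (piece U E) ∧ 0 < a k L (piece U (Coh.structureModule X)) := by
  haveI : IsNoetherian X := VB17.isNoetherian_of_over (k := k) (X := X)
  obtain ⟨hcE, -, hp, -⟩ := (isSemistable_iff k hd hL.1 E).1 hs
  obtain ⟨j, hj⟩ := exists_mono_piece hU E
  obtain ⟨x, hx⟩ := hc.nonempty
  have hn : ¬ IsZero (piece U E) := fun hz => by
    haveI : Subsingleton ((piece U E).presheaf.stalk x : Type u) :=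
      AddCommGrpCat.subsingleton_of_isZero ((M1.stalkAb x).map_isZero hz)
    exact h0 x (bijective_θ U E hx).1.subsingleton
  have h1 := a_pos_of_pure (k := k) hd hL (isCoh_piece U hU hcE) (isPure_of_mono hd j hp) hn
  refine ⟨h1, ?_⟩
  obtain ⟨r, hr, hEr⟩ := exists_rank (k := k) hd U hU hc hpure hE h0
  rw [(piece_tensor (k := k) hd U hU hc hpure hL.1 hE hE hEr hEr).1] at h1
  exact (mul_pos_iff_of_pos_left (Nat.cast_pos.2 hr)).1 h1

theorem a_structureModule (L : X.Modules) : a k L (Coh.structureModule X) =
    (Curv2.euler k X L : ℚ) - (Curv2.euler k X (Coh.structureModule X) : ℚ) := by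
  rw [a, CurveCoh17.euler_iso (M2.tensorLUnit L)]

omit [IsProper (X ↘ Spec (CommRingCat.of k))] [Smooth (X ↘ Spec (CommRingCat.of k))] hd in
theorem a_piece_structureModule (L : X.Modules) (U : X.Opens) (hU : IsClosed (U : Set X)) :
    a k L (piece U (Coh.structureModule X)) =
      (Curv2.euler k X (piece U L) : ℚ) - (Curv2.euler k X (piece U (Coh.structureModule X)) : ℚ) := by
  obtain ⟨i⟩ := nonempty_piece_tensor U hU (Coh.structureModule X) L
  rw [a, CurveCoh17.euler_iso (i ≪≫ (Scheme.Modules.pushforward U.ι).mapIso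
    ((Scheme.Modules.restrictFunctor U.ι).mapIso (M2.tensorLUnit L)))]

end Groth.Agent.Comp17
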