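import Groth.Agent.Lib.CBC10.Fib
import Groth.Agent.Lib.TensorMod.Invertible
import Groth.Agent.Lib.CohFound.ProjQuot
import Mathlib.RingTheory.Flat.Stability

/-!
# Uniform bounds for the cohomology of fibres
-/

set_option autoImplicit false
set_option linter.style.haveILetI false
set_option linter.unusedSectionVars false
set_option backward.isDefEq.respectTransparency false
set_option maxHeartbeats 1000000

universe u

open CategoryTheory CategoryTheory.Limits AlgebraicGeometry TopologicalSpace TensorProduct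

noncomputable section

namespace Groth.Agent.Comp17

open Groth.Agent

/-- Locally free modules are flat over a base over which the scheme is flat. -/
theorem isFlatOver_locFree {X S : Scheme.{u}} (f : X ⟶ S) [Flat f] {E : X.Modules} (hE : FlatMod.IsFinLocFree E) :
    FlatMod.IsFlatOver f E := fun x => by
  haveI := ((M1.isFinLocFree_iff _).1 hE).2 x
  letI : Algebra (S.presheaf.stalk (f x)) (X.presheaf.stalk x) := (Scheme.Hom.stalkMap f x).hom.toAlgebra
  haveI : Module.Flat (S.presheaf.stalk (f x)) (X.presheaf.stalk x) := Flat.stalkMap f x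
  letI := FlatMod.moduleStalkOver f E x
  haveI : IsScalarTower (S.presheaf.stalk (f x)) (X.presheaf.stalk x) (E.presheaf.stalk x) :=
    IsScalarTower.of_algebraMap_smul fun _ _ => rfl
  exact Module.Flat.trans (S.presheaf.stalk (f x)) (X.presheaf.stalk x) (E.presheaf.stalk x)

/-- The cohomology of all fibres of a flat coherent module is bounded by one number. -/
theorem exists_fibre_bound (A : Type u) [CommRing A] [IsNoetherianRing A] {X : Scheme.{u}}
    [X.Over (Spec (CommRingCat.of A))] [IsProper (X ↘ Spec (CommRingCat.of A))] {F : X.Modules} (hF : Coh.IsCoh F)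
    (hfl : FlatMod.IsFlatOver (X ↘ Spec (CommRingCat.of A)) F) (p : ℕ) :
    ∃ C : ℕ, ∀ (K : Type u) [Field K] [Algebra A K] (X' : Scheme.{u}) [X'.Over (Spec (CommRingCat.of K))]
      (g : X' ⟶ X), IsPullback g (X' ↘ Spec (CommRingCat.of K)) (X ↘ Spec (CommRingCat.of A))
        (Spec.map (CommRingCat.ofHom (algebraMap A K))) →
      Module.finrank K (Coh.HH X' ((Scheme.Modules.pullback g).obj F) p) ≤ C := by
  haveI : IsNoetherian X :=
    { toIsLocallyNoetherian := LocallyOfFiniteType.isLocallyNoetherian (X ↘ Spec (CommRingCat.of A))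
      toCompactSpace := QuasiCompact.compactSpace_of_compactSpace (X ↘ Spec (CommRingCat.of A)) }
  haveI : X.IsSeparated :=
    ⟨by rw [← Limits.terminal.comp_from (X ↘ Spec (CommRingCat.of A))]; infer_instance⟩
  obtain ⟨P, hfin, hfree, -, -, hP⟩ := CBC10.exists_computes A F hF hfl
  refine ⟨Module.finrank A (P.X (-(p : ℤ))), fun K _ _ X' _ g hg => ?_⟩
  obtain ⟨ε, hε⟩ := hP.exists_bc hF.1 hg
  let j := (FlatCxLib.tensorBcEquiv P K (sub_add_cancel (-(p : ℤ)) 1)).symm.trans (ε p)
  have hj : ∀ (c : K) m, j (c • m) = (RingHom.id K) c • j m := fun c m => by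
    obtain ⟨x, rfl⟩ := (FlatCxLib.tensorBcEquiv P K (sub_add_cancel (-(p : ℤ)) 1)).surjective m
    rw [← FlatCxLib.tensorBcEquiv_mul]
    simp only [j, AddEquiv.trans_apply, AddEquiv.symm_apply_apply]
    exact hε p c x
  haveI : Nontrivial A := (algebraMap A K).domain_nontrivial
  haveI := hfin (-(p : ℤ))
  haveI := hfree (-(p : ℤ))
  let L := CohIII.bcCx (algebraMap A K) P
  let u : L.X (-(p : ℤ)) ≃ₗ[K] K ⊗[A] P.X (-(p : ℤ)) := FlatCxLib.extEquiv K (P.X (-(p : ℤ)))
  haveI : Module.Finite K (L.X (-(p : ℤ))) := Module.Finite.equiv u.symm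
  have hcyc : Function.Injective (L.iCycles (-(p : ℤ))) := (ModuleCat.mono_iff_injective _).1 inferInstance
  haveI : Module.Finite K (L.cycles (-(p : ℤ))) :=
    Module.Finite.of_injective (L.iCycles (-(p : ℤ))).hom hcyc
  have h1 : Module.finrank K (L.homology (-(p : ℤ))) ≤ Module.finrank K (L.cycles (-(p : ℤ))) :=
    LinearMap.finrank_le_finrank_of_surjective (f := (L.homologyπ (-(p : ℤ))).hom)
      ((ModuleCat.epi_iff_surjective _).1 inferInstance)
  have h2 : Module.finrank K (L.cycles (-(p : ℤ))) ≤ Module.finrank K (L.X (-(p : ℤ))) :=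
    LinearMap.finrank_le_finrank_of_injective (f := (L.iCycles (-(p : ℤ))).hom) hcyc
  have h3 : Module.finrank K (L.X (-(p : ℤ))) = Module.finrank A (P.X (-(p : ℤ))) := by
    rw [LinearEquiv.finrank_eq u, Module.finrank_baseChange]
  have h4 : Module.finrank K (L.homology (-(p : ℤ))) = Module.finrank K (Coh.HH X' ((Scheme.Modules.pullback g).obj F) p) :=
    congrArg Cardinal.toNat (rank_eq_of_equiv_equiv (RingHom.id K) j Function.bijective_id hj)
  rw [← h4, ← h3]
  exact h1.trans h2

/-- The cohomology of all field-valued fibres is bounded by one number. -/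
theorem exists_fibre_bound_global {S X : Scheme.{u}} [IsNoetherian S] (p : X ⟶ S) [IsProper p] [Flat p] {F : X.Modules}
    (hFf : FlatMod.IsFinLocFree F) (i : ℕ) :
    ∃ C : ℕ, ∀ (K : Type u) [Field K] (x : Spec (CommRingCat.of K) ⟶ S),
      @Module.finrank K (Coh.HH (pullback p x) ((Scheme.Modules.pullback (pullback.fst p x)).obj F) i) _ _
        (letI : (pullback p x).Over (Spec (CommRingCat.of K)) := ⟨pullback.snd p x⟩; inferInstance) ≤ C := by
  classical
  have key : ∀ U : S.affineOpens, ∃ C : ℕ, ∀ (K : Type u) [Field K] (x : Spec (CommRingCat.of K) ⟶ S),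
      Set.range x ⊆ (U.1 : Set S) →
      @Module.finrank K (Coh.HH (pullback p x) ((Scheme.Modules.pullback (pullback.fst p x)).obj F) i) _ _
        (letI : (pullback p x).Over (Spec (CommRingCat.of K)) := ⟨pullback.snd p x⟩; inferInstance) ≤ C := by
    rintro ⟨U, hU⟩
    haveI : IsLocallyNoetherian X := LocallyOfFiniteType.isLocallyNoetherian p
    have hF : Coh.IsCoh F := CohFound.isCoh_of_isFinLocFree hFf
    haveI : IsNoetherianRing Γ(S, U) := IsLocallyNoetherian.component_noetherian ⟨U, hU⟩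
    letI : (p ⁻¹ᵁ U : Scheme.{u}).Over (Spec (CommRingCat.of Γ(S, U))) := ⟨(p ∣_ U) ≫ hU.isoSpec.hom⟩
    haveI hprop : IsProper ((p ⁻¹ᵁ U : Scheme.{u}) ↘ Spec (CommRingCat.of Γ(S, U))) :=
      inferInstanceAs (IsProper ((p ∣_ U) ≫ hU.isoSpec.hom))
    haveI : IsNoetherian (p ⁻¹ᵁ U : Scheme.{u}) :=
      { toIsLocallyNoetherian := LocallyOfFiniteType.isLocallyNoetherian ((p ⁻¹ᵁ U : Scheme.{u}) ↘ Spec (CommRingCat.of Γ(S, U)))
        toCompactSpace := QuasiCompact.compactSpace_of_compactSpace ((p ⁻¹ᵁ U : Scheme.{u}) ↘ Spec (CommRingCat.of Γ(S, U))) }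
    have hF' : Coh.IsCoh ((Scheme.Modules.pullback (p ⁻¹ᵁ U).ι).obj F) := M1.isCoh_pullback _ hF
    obtain ⟨C, hC⟩ := exists_fibre_bound Γ(S, U) hF' (isFlatOver_locFree ((p ∣_ U) ≫ hU.isoSpec.hom) (M2.isFinLocFree_pullback (p ⁻¹ᵁ U).ι hFf)) i
    refine ⟨C, fun K _ x hx => ?_⟩
    let x' := IsOpenImmersion.lift U.ι x (by simpa using hx)
    have hx' : x' ≫ U.ι = x := IsOpenImmersion.lift_fac _ _ _
    letI : (pullback p x).Over (Spec (CommRingCat.of K)) := ⟨pullback.snd p x⟩
    let g : pullback p x ⟶ (p ⁻¹ᵁ U : Scheme.{u}) := IsOpenImmersion.lift (p ⁻¹ᵁ U).ι (pullback.fst p x) (by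
      rintro _ ⟨y, rfl⟩
      simp only [Scheme.Opens.range_ι, SetLike.mem_coe]
      show p (pullback.fst p x y) ∈ U
      rw [← Scheme.Hom.comp_apply, pullback.condition, Scheme.Hom.comp_apply]
      exact hx ⟨_, rfl⟩)
    have hg : g ≫ (p ⁻¹ᵁ U).ι = pullback.fst p x := IsOpenImmersion.lift_fac _ _ _
    have hbig : IsPullback (g ≫ (p ⁻¹ᵁ U).ι) (pullback.snd p x) p (x' ≫ U.ι) := by
      rw [hg, hx']; exact IsPullback.of_hasPullback p x
    have hcomm : g ≫ (p ∣_ U) = pullback.snd p x ≫ x' := by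
      rw [← cancel_mono U.ι, Category.assoc, morphismRestrict_ι, Category.assoc, hx', reassoc_of% hg,
        pullback.condition]
    have hsq : IsPullback g (pullback.snd p x) (p ∣_ U) x' :=
      IsPullback.of_right hbig hcomm (isPullback_morphismRestrict p U).flip
    letI : Algebra Γ(S, U) K := (Spec.preimage (x' ≫ hU.isoSpec.hom)).hom.toAlgebra
    have hsq' : IsPullback g (pullback.snd p x) ((p ∣_ U) ≫ hU.isoSpec.hom)
        (Spec.map (CommRingCat.ofHom (algebraMap Γ(S, U) K))) := by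
      have : Spec.map (CommRingCat.ofHom (algebraMap Γ(S, U) K)) = x' ≫ hU.isoSpec.hom := Spec.map_preimage _
      rw [this]
      exact hsq.of_iso (Iso.refl _) (Iso.refl _) (Iso.refl _) hU.isoSpec (by simp) (by simp) (by simp) (by simp)
    have h := hC K (pullback p x) g hsq'
    refine le_of_eq_of_le (LinearEquiv.finrank_eq (CurveCoh17.hequiv K ?_ i)) h
    exact eqToIso (congrArg (fun f => (Scheme.Modules.pullback f).obj F) hg.symm) ≪≫
      ((Scheme.Modules.pullbackComp g (p ⁻¹ᵁ U).ι).app F).symm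
  choose C hC using key
  obtain ⟨t, ht⟩ := isCompact_univ.elim_finite_subcover (fun U : S.affineOpens => (U.1 : Set S))
    (fun U => U.1.isOpen) fun s _ => by
      obtain ⟨U, hU, hsU, -⟩ := exists_isAffineOpen_mem_and_subset (X := S) (x := s) (U := ⊤) trivial
      exact Set.mem_iUnion.2 ⟨⟨U, hU⟩, hsU⟩
  refine ⟨t.sup C, fun K _ x => ?_⟩
  obtain ⟨pt⟩ : Nonempty (Spec (CommRingCat.of K)) := inferInstance
  obtain ⟨U, hU, hxU⟩ := Set.mem_iUnion₂.1 (ht (Set.mem_univ (x pt)))
  refine (hC U K x ?_).trans (Finset.le_sup hU)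
  rintro _ ⟨y, rfl⟩
  rw [Subsingleton.elim y pt]
  exact hxU

end Groth.Agent.Comp17
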