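import Groth.Agent.Lib.Comp17.Split

/-!
# Euler characteristic and multiplicity of one-dimensional modules on clopen pieces
-/

set_option autoImplicit false
set_option linter.style.haveILetI false
set_option backward.isDefEq.respectTransparency false
set_option backward.isDefEq.respectTransparency.types false
set_option maxHeartbeats 1000000

universe u

open CategoryTheory CategoryTheory.Limits AlgebraicGeometry TopologicalSpace StabCat

noncomputable section

namespace Groth.Agent.Comp17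

open Groth.Agent

variable (k : Type u) [Field k] {X : Scheme.{u}} [X.Over (Spec (CommRingCat.of k))]

/-- The Euler characteristic. -/
def e (M : X.Modules) : ℚ := (Curv2.euler k X M : ℚ)

/-- The multiplicity for the polarisation. -/
def a (L M : X.Modules) : ℚ :=
  (Curv2.euler k X (CohB1.tensorMod M L) : ℚ) - (Curv2.euler k X M : ℚ)

theorem e_iso {M N : X.Modules} (i : M ≅ N) : e k M = e k N :=
  congrArg (fun z : ℤ => (z : ℚ)) (CurveCoh17.euler_iso i)

theorem a_iso (L : X.Modules) {M N : X.Modules} (i : M ≅ N) : a k L M = a k L N := by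
  rw [a, a, CurveCoh17.euler_iso i, CurveCoh17.euler_iso (M2.tensorIso i (Iso.refl L))]

variable [IsProper (X ↘ Spec (CommRingCat.of k))] {L : X.Modules} (hd : topologicalKrullDim X = 1)

include hd

theorem dim_le (M : X.Modules) : topologicalKrullDim (CohB1.support M) ≤ ((1 : ℕ) : WithBot ℕ∞) :=
  Topology.IsInducing.subtypeVal.topologicalKrullDim_le.trans (le_of_eq (hd.trans (by rfl)))

/-- The Hilbert polynomial is `e + a m`. -/
theorem hilb_line (hL : PicF.IsInvertible L) {M : X.Modules} (hM : Coh.IsCoh M) :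
    ShStab28.hilb k X L M = Polynomial.C (a k L M) * Polynomial.X + Polynomial.C (e k M) := by
  have hdeg := ShStab28.natDegree_hilb_le k hL hM (dim_le hd M)
  have hP := ShStab28.hilb_spec k hL hM
  have h0 := hP 0
  have h1 := hP 1
  have i0 : ShStab.twist X L M 0 ≅ M := M2.tensorRUnit M
  have i1 : ShStab.twist X L M 1 ≅ CohB1.tensorMod M L := M2.tensorIso (Iso.refl M) (M2.tensorPowOne L)
  rw [CurveCoh17.euler_iso i0] at h0
  rw [CurveCoh17.euler_iso i1] at h1
  rw [Polynomial.eq_X_add_C_of_natDegree_le_one hdeg] at h0 h1 ⊢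
  simp at h0 h1
  rw [show e k M = (ShStab28.hilb k X L M).coeff 0 from h0,
    show a k L M = (ShStab28.hilb k X L M).coeff 1 from by
      show (Curv2.euler k X (CohB1.tensorMod M L) : ℚ) - (Curv2.euler k X M : ℚ) = _
      rw [h0, h1]; ring]

theorem coeffs (hL : PicF.IsInvertible L) {M : X.Modules} (hM : Coh.IsCoh M) :
    (ShStab28.hilb k X L M).coeff 0 = e k M ∧ (ShStab28.hilb k X L M).coeff 1 = a k L M := by
  rw [hilb_line k hd hL hM]
  simp

theorem e_add (hL : PicF.IsInvertible L) {S : ShortComplex X.Modules} (hS : S.ShortExact)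
    (h1 : Coh.IsCoh S.X₁) (h2 : Coh.IsCoh S.X₂) (h3 : Coh.IsCoh S.X₃) :
    e k S.X₂ = e k S.X₁ + e k S.X₃ ∧ a k L S.X₂ = a k L S.X₁ + a k L S.X₃ := by
  have h := ShStab28.hilb_add k hL hS h1 h2 h3
  refine ⟨?_, ?_⟩
  · rw [← (coeffs k hd hL h1).1, ← (coeffs k hd hL h2).1, ← (coeffs k hd hL h3).1, h, Polynomial.coeff_add]
  · rw [← (coeffs k hd hL h1).2, ← (coeffs k hd hL h2).2, ← (coeffs k hd hL h3).2, h, Polynomial.coeff_add]

theorem a_pos (hL : CohB1.IsAmple L) {M : X.Modules} (hM : Coh.IsCoh M)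
    (h : topologicalKrullDim (CohB1.support M) = ((1 : ℕ) : WithBot ℕ∞)) : 0 < a k L M := by
  rw [← (coeffs k hd hL.1 hM).2]
  exact Snapper.coeff_isHilbPoly_pos hL hM h (ShStab28.hilb_spec k hL.1 hM)

theorem zero_vals (hL : PicF.IsInvertible L) {M : X.Modules} (h : IsZero M) : e k M = 0 ∧ a k L M = 0 := by
  haveI : IsNoetherian X := VB17.isNoetherian_of_over (k := k) (X := X)
  have hM : Coh.IsCoh M := DPerf.isCoh_of_isZero h
  let S : ShortComplex X.Modules := ShortComplex.mk (0 : M ⟶ M) (𝟙 M) zero_comp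
  let sp : S.Splitting :=
    { r := 0
      s := 𝟙 M
      f_r := h.eq_of_src _ _
      s_g := Category.comp_id _
      id := by simp [S] }
  have hS : S.ShortExact := sp.shortExact
  obtain ⟨he, ha⟩ := e_add k hd hL hS hM hM hM
  exact ⟨by linarith, by linarith⟩

theorem redLE_iff (hL : PicF.IsInvertible L) {F E : X.Modules} (hF : Coh.IsCoh F) (hE : Coh.IsCoh E) :
    RedLE 1 (ShStab28.hilb k X L F) (ShStab28.hilb k X L E) ↔ a k L E * e k F ≤ a k L F * e k E := by
  have hα : ∀ P : Polynomial ℚ, alpha 1 P = P.coeff 1 := fun P => by simp [alpha]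
  unfold RedLE PolyLE
  rw [hα, hα, (coeffs k hd hL hF).2, (coeffs k hd hL hE).2, hilb_line k hd hL hF, hilb_line k hd hL hE]
  simp only [Polynomial.eval_smul, Polynomial.eval_add, Polynomial.eval_mul, Polynomial.eval_C, Polynomial.eval_X,
    smul_eq_mul]
  constructor
  · rintro ⟨N, h⟩
    have := h N le_rfl
    linarith
  · intro h
    exact ⟨0, fun m _ => by linarith⟩

theorem isSemistable_iff (hL : PicF.IsInvertible L) (E : X.Modules) : ShStab.IsSemistable k X L E 1 ↔
    Coh.IsCoh E ∧ ¬ IsZero E ∧ ShStab.IsPure X E 1 ∧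
      ∀ (F : X.Modules) (ι : F ⟶ E), Mono ι → Coh.IsCoh F → ¬ IsZero F → a k L E * e k F ≤ a k L F * e k E := by
  constructor
  · rintro ⟨hE, h0, hp, hs⟩
    refine ⟨hE, h0, hp, fun F ι hι hF hF0 => ?_⟩
    by_cases hi : IsIso ι
    · rw [e_iso k (asIso ι), a_iso k L (asIso ι)]
    · exact (redLE_iff k hd hL hF hE).1
        (hs F ι hι hF hF0 hi _ _ (ShStab28.hilb_spec k hL hF) (ShStab28.hilb_spec k hL hE))
  · rintro ⟨hE, h0, hp, hs⟩
    refine ⟨hE, h0, hp, fun F ι hι hF hF0 _ pF pE hpF hpE => ?_⟩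
    rw [(ShStab28.isHilbPoly_iff k hL hF).1 hpF, (ShStab28.isHilbPoly_iff k hL hE).1 hpE]
    exact (redLE_iff k hd hL hF hE).2 (hs F ι hι hF hF0)

theorem dim_of_sub {M N : X.Modules} (hsub : CohB1.support M ⊆ CohB1.support N)
    (h : topologicalKrullDim (CohB1.support M) = ((1 : ℕ) : WithBot ℕ∞)) :
    topologicalKrullDim (CohB1.support N) = ((1 : ℕ) : WithBot ℕ∞) := by
  refine le_antisymm (dim_le hd N) (h.ge.trans ?_)
  exact (Topology.IsEmbedding.inclusion hsub).isInducing.topologicalKrullDim_le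

end Groth.Agent.Comp17
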