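import Groth.Agent.Lib.Comp17.ParSect
import Groth.Agent.Lib.Comp17.Conn
import Groth.Agent.Lib.KCoh4.Loc
import Groth.Prelude.Def_DecSh2

/-!
# Parabolic tensor fields on a smooth curve
-/

set_option autoImplicit false
set_option linter.style.haveILetI false
set_option backward.isDefEq.respectTransparency false
set_option backward.isDefEq.respectTransparency.types false
set_option maxHeartbeats 1000000

universe u

open CategoryTheory CategoryTheory.Limits AlgebraicGeometry TopologicalSpace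

noncomputable section

namespace Groth.Agent.Comp17

open Groth.Agent Groth.Agent.M1 Groth.Agent.M2 Groth.Agent.CurveCoh17

theorem rank_restrict {X Y : Scheme.{u}} (j : Y ⟶ X) [IsOpenImmersion j] {n : ℕ} {M : X.Modules}
    (h : FlatMod.IsFinLocFreeOfRank n M) : FlatMod.IsFinLocFreeOfRank n (M.restrict j) := fun y => by
  obtain ⟨U, hU, ⟨i⟩⟩ := h (j y)
  exact ⟨j ⁻¹ᵁ U, hU, ⟨(Scheme.Modules.restrictFunctor _).mapIso ((Scheme.Modules.restrictFunctorIsoPullback j).app M) ≪≫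
    M2.pullbackRestrictIso j M U ≪≫ (Scheme.Modules.pullback _).mapIso i ≪≫ M2.freeModPullbackIso _ n⟩⟩

variable {k : Type u} [Field k] {X : Scheme.{u}} [X.Over (Spec (CommRingCat.of k))]

theorem parChi_bounds {ν : ℕ} (I₀ : Fin ν → X.IdealSheafData) {E : X.Modules}
    (K₀ : ∀ i, Submodule k (ParSh.fibD X (I₀ i) E)) (κ : Fin ν → ℚ) (hκ : ∀ i, 0 < κ i ∧ κ i < 1)
    {r : ℕ} (hr : 0 < r) (hK : ∀ i, Module.finrank k (ParSh.fibD X (I₀ i) E ⧸ K₀ i) = r)
    (P : X.Modules) (j : P ⟶ E) :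
    DecSh.parChi k I₀ K₀ κ j ≤ e k P ∧ e k P ≤ DecSh.parChi k I₀ K₀ κ j + ν * r := by
  have hb : ∀ i, 0 ≤ κ i * (Module.finrank k ((LinearMap.range (ParSh.fibDMap k X (I₀ i) j)).map (K₀ i).mkQ) : ℚ) ∧
      κ i * (Module.finrank k ((LinearMap.range (ParSh.fibDMap k X (I₀ i) j)).map (K₀ i).mkQ) : ℚ) ≤ r := fun i => by
    haveI := Module.finite_of_finrank_pos ((hK i).symm ▸ hr)
    have h := Submodule.finrank_le ((LinearMap.range (ParSh.fibDMap k X (I₀ i) j)).map (K₀ i).mkQ)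
    rw [hK i] at h
    have h' : (Module.finrank k ((LinearMap.range (ParSh.fibDMap k X (I₀ i) j)).map (K₀ i).mkQ) : ℚ) ≤ r := by
      exact_mod_cast h
    exact ⟨mul_nonneg (hκ i).1.le (Nat.cast_nonneg _),
      (mul_le_of_le_one_left (Nat.cast_nonneg _) (hκ i).2.le).trans h'⟩
  have h0 := Finset.sum_nonneg fun i (_ : i ∈ Finset.univ) => (hb i).1
  have h1 := Finset.sum_le_sum fun i (_ : i ∈ Finset.univ) => (hb i).2
  simp only [Finset.sum_const, Finset.card_univ, Fintype.card_fin, nsmul_eq_mul] at h1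
  rw [DecSh.parChi, e]
  constructor <;> linarith

variable [IsProper (X ↘ Spec (CommRingCat.of k))] (hd : topologicalKrullDim X = 1)

include k hd

theorem isZero_rank_zero {E : X.Modules} (hE : FlatMod.IsFinLocFreeOfRank 0 E) : IsZero E :=
  KCoh4.isZero_of_stalks (Y := X) fun x => by
    obtain ⟨e⟩ := nonempty_stalk_equiv hE x
    exact e.injective.subsingleton

theorem vals_bundle [Smooth (X ↘ Spec (CommRingCat.of k))] (hpure : ∀ x : X, ¬ IsOpen ({x} : Set X))
    {L : X.Modules} (hL : PicF.IsInvertible L) {r : ℕ} {E : X.Modules}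
    (hE : FlatMod.IsFinLocFreeOfRank r E) :
    e k E = (Curv2.deg k X E r : ℚ) + r * e k (Coh.structureModule X) ∧
      a k L E = r * a k L (Coh.structureModule X) := by
  haveI : IsNoetherian X := VB17.isNoetherian_of_over (k := k) (X := X)
  refine ⟨by rw [e, e, Curv2.deg]; push_cast; ring, ?_⟩
  have hf := M2.isFinLocFree_of_ofRank hE
  have hcE := isCoh_of_ofRank hE
  have hcO : Coh.IsCoh (Coh.structureModule X) := CurveCoh17.isCoh_structureModule
  have key : ∀ W : X.Opens, IsClosed (W : Set X) →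
      a k L (piece W E) = r * a k L (piece W (Coh.structureModule X)) := fun W hW => by
    refine clopen_induction (P := fun W => a k L (piece W E) = r * a k L (piece W (Coh.structureModule X)))
      ?_ ?_ ?_ W hW
    · intro W hW he
      rw [(piece_empty (k := k) hd hL hW he E).2, (piece_empty (k := k) hd hL hW he _).2, mul_zero]
    · intro W hW hc
      exact (piece_tensor (k := k) hd W hW hc hpure hL hf hf (rank_restrict W.ι hE)
        (rank_restrict W.ι hE)).1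
    · intro W W₁ W₂ hW h₁ h₂ heq hdj i1 i2
      rw [(piece_add (k := k) hd hL hW h₁ h₂ heq hdj hcE).2, (piece_add (k := k) hd hL hW h₁ h₂ heq hdj hcO).2,
        i1, i2, mul_add]
  have := key ⊤ isClosed_univ
  rwa [(piece_top (k := k) (L := L) hd E).2, (piece_top (k := k) (L := L) hd _).2] at this

theorem tf_bundle {r : ℕ} {E : X.Modules} (hE : FlatMod.IsFinLocFreeOfRank r E) : TorSh.IsTorsionFree E := fun x => by
  obtain ⟨u⟩ := CurveCoh17.nonempty_stalk_equiv hE x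
  exact u.injective.moduleIsTorsionFree _ (map_smul _)

variable [Smooth (X ↘ Spec (CommRingCat.of k))] [AlgebraicGeometry.IsReduced X] [Infinite k] (hpure : ∀ x : X, ¬ IsOpen ({x} : Set X))
  {L : X.Modules} (hL : CohB1.IsAmple L)

include hpure hL

/-- Submodules of a parabolic semistable tensor field. -/
theorem par_sub_bound {ν : ℕ} (I₀ : Fin ν → X.IdealSheafData) {κ : Fin ν → ℚ} (hκ : ∀ i, 0 < κ i ∧ κ i < 1)
    {δ : ℚ} (hδ : 0 < δ) {r A B : ℕ} {E : X.Modules} (hE : FlatMod.IsFinLocFreeOfRank r E)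
    {K₀ : ∀ i, Submodule k (ParSh.fibD X (I₀ i) E)} (hK : ∀ i, Module.finrank k (ParSh.fibD X (I₀ i) E ⧸ K₀ i) = r)
    {Dm : X.Modules} (T : DecSh.TF E A B Dm) (hT : T.IsParSemistable k I₀ K₀ κ L δ)
    (G : X.Modules) (j : G ⟶ E) (_ : Mono j) (hG : Coh.IsCoh G) (hG0 : ¬ IsZero G) :
    e k G ≤ |e k E| + 2 * ((ν : ℚ) * r) + δ * A := by
  haveI : IsNoetherian X := VB17.isNoetherian_of_over (k := k) (X := X)
  have hr : 0 < r := Nat.pos_of_ne_zero fun h => hG0 (IsZero.of_mono j (isZero_rank_zero (k := k) hd (h ▸ hE)))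
  have hcE : Coh.IsCoh E := isCoh_of_ofRank hE
  have hνr : (0 : ℚ) ≤ (ν : ℚ) * r := mul_nonneg (Nat.cast_nonneg _) (Nat.cast_nonneg _)
  have hδA : 0 ≤ δ * A := mul_nonneg hδ.le (Nat.cast_nonneg _)
  by_cases htop : Subobject.mk j = ⊤
  · haveI : IsIso j := (Subobject.isIso_iff_mk_eq_top j).2 htop
    rw [e_iso k (asIso j)]
    linarith [le_abs_self (e k E)]
  · let u := Subobject.underlyingIso j
    let P := Subobject.mk j
    have hP0 : ¬ IsZero (P : X.Modules) := fun h => hG0 (h.of_iso u.symm)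
    have hPc : Coh.IsCoh (P : X.Modules) := CohFound.isCoh_of_iso u.symm hG
    have hss := hT (DecSh.WFilt.single P htop hP0) fun _ => hPc
    obtain ⟨I, -, hI⟩ := (DecSh.WFilt.single P htop hP0).exists_gam_eq_mu (DecSh.mult k X L E)
      (fun Q => DecSh.mult k X L (Q : X.Modules)) T.nv
    rw [← hI] at hss
    have hnu := Finset.card_filter_le (Finset.univ : Finset (Fin A))
      (fun i => (DecSh.WFilt.single P htop hP0).mulX (DecSh.mult k X L E)
        (fun Q => DecSh.mult k X L (Q : X.Modules)) (I i) ≤ DecSh.mult k X L (P : X.Modules))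
    simp only [Finset.card_univ, Fintype.card_fin] at hnu
    have hnu' : (((DecSh.WFilt.single P htop hP0).nu (DecSh.mult k X L E)
        (fun Q => DecSh.mult k X L (Q : X.Modules)) I ⟨0, Nat.one_pos⟩ : ℕ) : ℚ) ≤ (A : ℚ) := by
      exact_mod_cast hnu
    have hsum : ∀ f : Fin (DecSh.WFilt.single P htop hP0).t → ℚ, ∑ i, f i = f ⟨0, Nat.one_pos⟩ :=
      fun f => Fin.sum_univ_one f
    rw [DecSh.WFilt.msum, DecSh.WFilt.gam, hsum, hsum] at hss
    generalize ((DecSh.WFilt.single P htop hP0).nu (DecSh.mult k X L E)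
        (fun Q => DecSh.mult k X L (Q : X.Modules)) I ⟨0, Nat.one_pos⟩ : ℕ) = w at hss hnu'
    have hw : (DecSh.WFilt.single P htop hP0).wt ⟨0, Nat.one_pos⟩ = 1 := rfl
    have hp : (DecSh.WFilt.single P htop hP0).piece ⟨0, Nat.one_pos⟩ = P := rfl
    rw [hw, hp, one_mul, one_mul, mult_cast, mult_cast, a_iso k L u] at hss
    obtain ⟨hl, hu⟩ := parChi_bounds I₀ K₀ κ hκ hr hK _ P.arrow
    obtain ⟨hl', hu'⟩ := parChi_bounds I₀ K₀ κ hκ hr hK E (𝟙 E)
    rw [show e k (P : X.Modules) = e k G from e_iso k u] at hu hl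
    obtain ⟨hQ, -, hadd⟩ := vals_coker (k := k) hd hL.1 hG hcE j
    have hq := a_nonneg (k := k) hd hL hQ
    have hp0 := a_nonneg (k := k) hd hL hG
    have hone : 1 ≤ a k L E := one_le_a (k := k) hd hL hcE
      (dim_of_tf (k := k) hd hpure hcE (tf_bundle (k := k) hd hE) hcE (𝟙 E) fun h => hG0 (IsZero.of_mono j h))
    have e1 : a k L G * DecSh.parChi k I₀ K₀ κ (𝟙 E) ≤ a k L E * (|e k E|) := by
      refine le_trans (mul_le_mul_of_nonneg_left (hl'.trans (le_abs_self _)) hp0) ?_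
      exact mul_le_mul_of_nonneg_right (by linarith) (abs_nonneg _)
    have e2 : δ * ((w : ℚ) * a k L E) ≤ δ * ((A : ℚ) * a k L E) :=
      mul_le_mul_of_nonneg_left (mul_le_mul_of_nonneg_right hnu' (by linarith)) hδ.le
    have e3 : 0 ≤ δ * ((A : ℚ) * a k L G) := mul_nonneg hδ.le (mul_nonneg (Nat.cast_nonneg _) hp0)
    have e4 : a k L E * e k G ≤ a k L E * (DecSh.parChi k I₀ K₀ κ P.arrow + ν * r) :=
      mul_le_mul_of_nonneg_left hu (by linarith)
    have e5 : 0 ≤ a k L E * ((ν : ℚ) * r) := mul_nonneg (by linarith) hνr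
    have h1 : a k L E * e k G ≤ a k L E * (|e k E| + 2 * ((ν : ℚ) * r) + δ * A) := by linarith
    exact le_of_mul_le_mul_left h1 (by linarith)

/-- The sectional inequality for parabolic semistable tensor fields. -/
theorem exists_par_sectional {ν : ℕ} (I₀ : Fin ν → X.IdealSheafData) {κ : Fin ν → ℚ} (hκ : ∀ i, 0 < κ i ∧ κ i < 1)
    {δ : ℚ} (hδ : 0 < δ) (r A B : ℕ) (d : ℤ) :
    ∃ n₁ : ℕ, ∀ m : ℕ, n₁ < m → ∀ (E : X.Modules), FlatMod.IsFinLocFreeOfRank r E → Curv2.deg k X E r = d →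
      ∀ (K₀ : ∀ i, Submodule k (ParSh.fibD X (I₀ i) E)),
        (∀ i, Module.finrank k (ParSh.fibD X (I₀ i) E ⧸ K₀ i) = r) →
        ∀ (Dm : X.Modules) (T : DecSh.TF E A B Dm), T.IsParSemistable k I₀ K₀ κ L δ →
          ∀ 𝓕 : DecSh.WFilt E, (∀ i, Coh.IsCoh ((𝓕.piece i : Subobject E) : X.Modules)) →
            (∑ i, 𝓕.wt i *
              ((DecSh.mult k X L E : ℚ) *
                  ((Module.finrank k (Coh.HH X (ShStab.twist X L ((𝓕.piece i : Subobject E) : X.Modules) m) 0) : ℚ) -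
                    ((Curv2.euler k X ((𝓕.piece i : Subobject E) : X.Modules) : ℚ) -
                      DecSh.parChi k I₀ K₀ κ (𝓕.piece i).arrow)) -
                (DecSh.mult k X L ((𝓕.piece i : Subobject E) : X.Modules) : ℚ) *
                  ((Curv2.euler k X (ShStab.twist X L E m) : ℚ) -
                    ((Curv2.euler k X E : ℚ) - DecSh.parChi k I₀ K₀ κ (𝟙 E))))) +
              δ * T.mu k L 𝓕 ≤ 0 := by
  classical
  haveI : IsNoetherian X := VB17.isNoetherian_of_over (k := k) (X := X)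
  let eE : ℚ := (d : ℚ) + r * e k (Coh.structureModule X)
  obtain ⟨αm, hαm'⟩ := exists_nat_ge ((r : ℚ) * a k L (Coh.structureModule X))
  let K : ℚ := |eE| + 2 * ((ν : ℚ) * r) + δ * A
  obtain ⟨jn, hjn⟩ := exists_nat_ge (|eE| + (ν : ℚ) * r + δ * A + 2)
  obtain ⟨N₂, hN₂⟩ := exists_dichotomy' (k := k) hd hpure hL K αm jn
  refine ⟨N₂, fun m hm E hEr hdeg K₀ hK₀ Dm T hT 𝓕 h𝓕 => ?_⟩
  obtain ⟨he0, ha0⟩ := vals_bundle (k := k) hd hpure hL.1 hEr
  rw [hdeg] at he0
  have hE : Coh.IsCoh E := isCoh_of_ofRank hEr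
  have ht := tf_bundle (k := k) hd hEr
  have hr : 0 < r := Nat.pos_of_ne_zero fun h =>
    𝓕.piece_nonzero ⟨0, 𝓕.t_pos⟩ (IsZero.of_mono (𝓕.piece _).arrow (isZero_rank_zero (k := k) hd (h ▸ hEr)))
  have hK : ∀ (G : X.Modules) (j : G ⟶ E), Mono j → Coh.IsCoh G → ¬ IsZero G → e k G ≤ K := fun G j hj hG hG0 => by
    have h := par_sub_bound hd hpure hL I₀ hκ hδ hEr hK₀ T hT G j hj hG hG0
    rwa [he0] at h
  have hpar := parChi_bounds (X := X) I₀ K₀ κ hκ hr hK₀
  generalize hα : DecSh.mult k X L E = α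
  have hαq : a k L E = (α : ℚ) := by rw [← mult_cast, hα]
  have hαm : (α : ℚ) ≤ αm := by rw [← hαq, ha0]; exact hαm'
  let pE : ℚ := DecSh.parChi k I₀ K₀ κ (𝟙 E)
  have hjnE : |pE| + δ * A + 2 ≤ (jn : ℚ) := by
    obtain ⟨hl, hu⟩ := hpar E (𝟙 E)
    rw [he0] at hl hu
    have : |pE| ≤ |eE| + (ν : ℚ) * r := by
      rw [abs_le]
      constructor
      · linarith [neg_abs_le eE]
      · linarith [le_abs_self eE, mul_nonneg (Nat.cast_nonneg (α := ℚ) ν) (Nat.cast_nonneg (α := ℚ) r)]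
    linarith
  let x : Fin 𝓕.t → ℚ := fun i => a k L ((𝓕.piece i : Subobject E) : X.Modules)
  let c : Fin 𝓕.t → ℚ := fun i => e k ((𝓕.piece i : Subobject E) : X.Modules)
  let h : Fin 𝓕.t → ℚ := fun i =>
    (Module.finrank k (Coh.HH X (ShStab.twist X L ((𝓕.piece i : Subobject E) : X.Modules) m) 0) : ℚ)
  let p : Fin 𝓕.t → ℚ := fun i => DecSh.parChi k I₀ K₀ κ (𝓕.piece i).arrow
  let q : Fin 𝓕.t → ℚ := fun i => (α : ℚ) * p i - x i * pE
  have hp : ∀ i, p i ≤ c i := fun i => (hpar _ (𝓕.piece i).arrow).1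
  have hx : ∀ i, 0 ≤ x i ∧ x i ≤ (α : ℚ) := fun i => by
    obtain ⟨hQ, -, hadd⟩ := vals_coker (k := k) hd hL.1 (h𝓕 i) hE (𝓕.piece i).arrow
    have h1 := a_nonneg (k := k) hd hL (h𝓕 i)
    have h2 := a_nonneg (k := k) hd hL hQ
    rw [hαq] at hadd
    refine ⟨h1, ?_⟩
    show a k L _ ≤ _
    linarith
  have hα1 : (1 : ℚ) ≤ (α : ℚ) := by
    have hE0 : ¬ IsZero E := fun hz => 𝓕.piece_nonzero ⟨0, 𝓕.t_pos⟩ (IsZero.of_mono (𝓕.piece _).arrow hz)
    rw [← hαq]
    exact one_le_a (k := k) hd hL hE (dim_of_tf (k := k) hd hpure hE ht hE (𝟙 E) hE0)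
  have hd2 : ∀ i, h i = c i + m * x i ∨ h i ≤ m * x i - jn := fun i =>
    hN₂ E hE ht (by rw [hαq]; exact hαm) hK m hm.le _ (𝓕.piece i).arrow inferInstance (h𝓕 i)
  let bad : Fin 𝓕.t → Prop := fun i => h i ≠ c i + m * x i
  let S : ℚ := ∑ i, |q i|
  have hS : 0 ≤ S := Finset.sum_nonneg fun i _ => abs_nonneg _
  let ε : ℚ := 1 / (S + 1)
  have hε : 0 < ε := div_pos one_pos (by linarith)
  have hε1 : ε ≤ 1 := by rw [div_le_one (by linarith)]; linarith
  have hεq : ∀ i, ε * |q i| ≤ 1 := fun i => by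
    have h1 : |q i| ≤ S := Finset.single_le_sum (f := fun i => |q i|) (fun j _ => abs_nonneg _) (Finset.mem_univ i)
    have h2 : ε * (S + 1) = 1 := div_mul_cancel₀ _ (by linarith)
    nlinarith
  let 𝓕' : DecSh.WFilt E :=
    { 𝓕 with
      wt := fun i => if bad i then 𝓕.wt i * ε else 𝓕.wt i
      wt_pos := fun i => by
        have := 𝓕.wt_pos i
        split_ifs
        · positivity
        · exact this }
  have hss := hT 𝓕' h𝓕
  obtain ⟨I, hIa, hI⟩ := 𝓕'.exists_gam_eq_mu (DecSh.mult k X L E)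
    (fun Q => DecSh.mult k X L (Q : X.Modules)) T.nv
  rw [← hI] at hss
  have hmu : T.mu k L 𝓕 ≤ 𝓕.gam (DecSh.mult k X L E) (fun Q => DecSh.mult k X L (Q : X.Modules)) I :=
    𝓕.mu_le_gam (DecSh.mult k X L E) (fun Q => DecSh.mult k X L (Q : X.Modules)) T.nv hIa
  let g : Fin 𝓕.t → ℚ := fun i => (A : ℚ) * x i -
    (𝓕.nu (DecSh.mult k X L E) (fun Q => DecSh.mult k X L (Q : X.Modules)) I i : ℚ) * α
  have hg : ∀ i, g i ≤ (A : ℚ) * α := fun i => by
    have h1 : (A : ℚ) * x i ≤ (A : ℚ) * α := mul_le_mul_of_nonneg_left (hx i).2 (Nat.cast_nonneg _)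
    have h2 : (0 : ℚ) ≤ (𝓕.nu (DecSh.mult k X L E) (fun Q => DecSh.mult k X L (Q : X.Modules)) I i : ℚ) * α :=
      mul_nonneg (Nat.cast_nonneg _) (by linarith)
    show (A : ℚ) * x i - _ ≤ _
    linarith
  have hgam : 𝓕.gam (DecSh.mult k X L E) (fun Q => DecSh.mult k X L (Q : X.Modules)) I = ∑ i, 𝓕.wt i * g i := by
    refine Finset.sum_congr rfl fun i _ => ?_
    simp only [g, x]
    rw [mult_cast, mult_cast, hαq]
  have hss' : ∑ i, 𝓕'.wt i * q i + δ * ∑ i, 𝓕'.wt i * g i ≤ 0 := by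
    refine le_of_eq_of_le ?_ hss
    congr 1
    · refine Finset.sum_congr rfl fun i _ => ?_
      simp only [q, p, x]
      rw [mult_cast, mult_cast, hαq]
    · congr 1
      refine Finset.sum_congr rfl fun i _ => ?_
      simp only [g, x]
      rw [mult_cast, mult_cast, hαq]
      rfl
  -- termwise comparison
  let F : Fin 𝓕.t → ℚ := fun i => 𝓕.wt i * ((α : ℚ) * (h i - (c i - p i)) - x i * (pE + m * α)) + δ * (𝓕.wt i * g i)
  let F' : Fin 𝓕.t → ℚ := fun i => 𝓕'.wt i * q i + δ * (𝓕'.wt i * g i)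
  have hF' : ∑ i, F' i ≤ 0 := by
    simp only [F', Finset.sum_add_distrib, ← Finset.mul_sum]
    exact hss'
  have hterm : ∀ i, (bad i → F i < F' i) ∧ F i ≤ F' i := fun i => by
    by_cases hb : bad i
    · have hw' : 𝓕'.wt i = 𝓕.wt i * ε := if_pos hb
      have hlt : F i < F' i := by
        have hbd : h i ≤ m * x i - jn := (hd2 i).resolve_left hb
        have h1 : (α : ℚ) * (h i - (c i - p i)) ≤ (α : ℚ) * (m * x i - jn) :=
          mul_le_mul_of_nonneg_left (by linarith [hp i]) (by linarith)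
        have h2 : (α : ℚ) * (|pE| + δ * A + 2) ≤ (α : ℚ) * jn :=
          mul_le_mul_of_nonneg_left hjnE (by linarith)
        have h3 : -((α : ℚ) * |pE|) ≤ x i * pE := by
          have h31 : x i * (-|pE|) ≤ x i * pE := mul_le_mul_of_nonneg_left (neg_abs_le _) (hx i).1
          have h32 : x i * |pE| ≤ (α : ℚ) * |pE| := mul_le_mul_of_nonneg_right (hx i).2 (abs_nonneg _)
          linarith
        have h4 : -1 ≤ ε * q i := by
          have h41 : ε * (-|q i|) ≤ ε * q i := mul_le_mul_of_nonneg_left (neg_abs_le _) hε.le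
          linarith [hεq i]
        have h5 : (1 - ε) * (δ * g i) ≤ δ * ((A : ℚ) * α) := by
          have h51 : (1 - ε) * (δ * g i) ≤ (1 - ε) * (δ * ((A : ℚ) * α)) :=
            mul_le_mul_of_nonneg_left (mul_le_mul_of_nonneg_left (hg i) hδ.le) (by linarith)
          have h52 : 0 ≤ ε * (δ * ((A : ℚ) * α)) :=
            mul_nonneg hε.le (mul_nonneg hδ.le (mul_nonneg (Nat.cast_nonneg _) (by linarith)))
          linarith
        have hneg : (α : ℚ) * (h i - (c i - p i)) - x i * (pE + m * α) + δ * g i - ε * (q i + δ * g i) < 0 := by linarith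
        have hmul := mul_neg_of_pos_of_neg (𝓕.wt_pos i) hneg
        simp only [F, F', hw']
        linarith
      exact ⟨fun _ => hlt, hlt.le⟩
    · have hw' : 𝓕'.wt i = 𝓕.wt i := if_neg hb
      refine ⟨fun hb' => absurd hb' hb, le_of_eq ?_⟩
      have he : h i = c i + m * x i := not_not.1 hb
      simp only [F, F', hw', q, he]
      ring
  have hle : ∑ i, 𝓕.wt i * ((α : ℚ) * (h i - (c i - p i)) - x i * (pE + m * α)) + δ * T.mu k L 𝓕 ≤ ∑ i, F i := by
    simp only [F, Finset.sum_add_distrib, ← Finset.mul_sum]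
    rw [← hgam]
    linarith [mul_le_mul_of_nonneg_left hmu hδ.le]
  have hgoal : ∀ i, 𝓕.wt i * ((α : ℚ) *
      ((Module.finrank k (Coh.HH X (ShStab.twist X L ((𝓕.piece i : Subobject E) : X.Modules) m) 0) : ℚ) -
        ((Curv2.euler k X ((𝓕.piece i : Subobject E) : X.Modules) : ℚ) - DecSh.parChi k I₀ K₀ κ (𝓕.piece i).arrow)) -
      (DecSh.mult k X L ((𝓕.piece i : Subobject E) : X.Modules) : ℚ) *
        ((Curv2.euler k X (ShStab.twist X L E m) : ℚ) - ((Curv2.euler k X E : ℚ) - pE))) =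
      𝓕.wt i * ((α : ℚ) * (h i - (c i - p i)) - x i * (pE + m * α)) := fun i => by
    rw [euler_twist_eq (k := k) hd hL.1 hE m, hαq, mult_cast]
    simp only [e, c, p, h, x]
    ring
  rw [Finset.sum_congr rfl fun i _ => hgoal i]
  exact (hle.trans (Finset.sum_le_sum fun i _ => (hterm i).2)).trans hF'

end Groth.Agent.Comp17
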