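import Groth.Agent.Lib.Comp17.SectionalIff
import Groth.Agent.Lib.Comp17.EmbedPow
import Groth.Agent.Lib.CurveCoh17.Degree
import Groth.Agent.Lib.TensorMod.Invertible
import Groth.Agent.Lib.OrbitTop19.Smooth
import Groth.Agent.Lib.CMReg18.GG

/-!
# Twists by an ample line bundle: vanishing, generation, sections of submodules
-/

set_option autoImplicit false
set_option linter.style.haveILetI false
set_option backward.isDefEq.respectTransparency false
set_option backward.isDefEq.respectTransparency.types false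
set_option maxHeartbeats 1000000

universe u

open CategoryTheory CategoryTheory.Limits AlgebraicGeometry TopologicalSpace

noncomputable section

namespace Groth.Agent.Comp17

open Groth.Agent Groth.Agent.M1 Groth.Agent.M2 Groth.Agent.CurveCoh17

variable {k : Type u} [Field k] {X : Scheme.{u}} [X.Over (Spec (CommRingCat.of k))]
  [IsProper (X ↘ Spec (CommRingCat.of k))] (hd : topologicalKrullDim X = 1)

include k hd

/-- An embedding makes the pullback of `O(1)` very ample. -/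
theorem isRelVeryAmplePn_emb {n : ℕ} (ι : X ⟶ CohB1.ProjSpace n k) [IsClosedImmersion ι]
    (hι : ι ≫ CohB1.ProjSpace.toSpec n k = X ↘ Spec (CommRingCat.of k)) :
    RelAmple.IsRelVeryAmplePn (X ↘ Spec (CommRingCat.of k))
      ((Scheme.Modules.pullback ι).obj (_root_.Twist.twistProjSpace n k 1)) := by
  obtain ⟨σ⟩ := AmpleImm18.nonempty_pullback_map_twist n k
  let fY := pullback.fst (CohB1.ProjSpace.toSpec n (ULift.{u} ℤ)) (specULiftZIsTerminal.from (Spec (CommRingCat.of k)))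
  let i := ι ≫ (ProjSpace.overSpecIso n k).hom
  have e1 : ι ≫ ProjSpace.map n (ProjSpace.fromZ k) = i ≫ fY := by
    rw [← ProjSpace.overSpecIso_hom_fst]
    simp [i, fY]
  refine ⟨n, i, inferInstance, ?_, ⟨(Scheme.Modules.pullback ι).mapIso σ.symm ≪≫
    (Scheme.Modules.pullbackComp ι (ProjSpace.map n (ProjSpace.fromZ k))).app _ ≪≫
    eqToIso (congrArg (fun f => (Scheme.Modules.pullback f).obj _) e1) ≪≫
    ((Scheme.Modules.pullbackComp i fY).app _).symm⟩⟩
  show (ι ≫ (ProjSpace.overSpecIso n k).hom) ≫ _ = _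
  rw [Category.assoc, ← hι]
  congr 1
  exact ProjSpace.overSpecIso_hom_toBase n k

theorem tf_tensor_pow {L : X.Modules} (hL : PicF.IsInvertible L) (j : ℕ) {F : X.Modules} (hF : Coh.IsCoh F)
    (ht : TorSh.IsTorsionFree F) : TorSh.IsTorsionFree (CohB1.tensorMod F (CohB1.tensorPow L j)) := fun x => by
  haveI := ht x
  obtain ⟨eO⟩ := CurveCoh17.nonempty_stalk_equiv
    ((isInvertible_iff_isFinLocFreeOfRank_one _).1 (Amp.isInvertible_tensorPow hL j)) x
  exact (M2.stalkEquiv F (CohB1.tensorPow L j) x ≪≫ₗ TensorProduct.congr (LinearEquiv.refl _ _)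
    (eO ≪≫ₗ LinearEquiv.funUnique (Fin 1) _ _) ≪≫ₗ TensorProduct.rid _ _).injective.moduleIsTorsionFree _
      (map_smul _)

theorem e_pow {L : X.Modules} (hL : PicF.IsInvertible L) (j : ℕ) {F : X.Modules} (hF : Coh.IsCoh F) :
    e k (CohB1.tensorMod F (CohB1.tensorPow L j)) = e k F + j * a k L F ∧
      a k L (CohB1.tensorMod F (CohB1.tensorPow L j)) = a k L F := by
  have h0 := e_twist (k := k) hd hL hF j
  have h1 := e_twist (k := k) hd hL hF (j + 1)
  refine ⟨h0, ?_⟩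
  have hi : Curv2.euler k X (CohB1.tensorMod (CohB1.tensorMod F (CohB1.tensorPow L j)) L) =
      Curv2.euler k X (CohB1.tensorMod F (CohB1.tensorPow L (j + 1))) :=
    CurveCoh17.euler_iso (M2.tensorAssoc F (CohB1.tensorPow L j) L)
  rw [e, e] at h0 h1
  rw [a, hi]
  push_cast at h1
  linarith

variable [AlgebraicGeometry.IsReduced X] [Infinite k] (hpure : ∀ x : X, ¬ IsOpen ({x} : Set X))
  {L : X.Modules} (hL : CohB1.IsAmple L)

include hpure hL

/-- The decomposition of the twists along an embedding. -/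
theorem exists_emb : ∃ (n c : ℕ) (ι : X ⟶ CohB1.ProjSpace n k), 0 < c ∧
    ι ≫ CohB1.ProjSpace.toSpec n k = X ↘ Spec (CommRingCat.of k) ∧ ∃ _ : IsClosedImmersion ι,
      Nonempty ((embData (k := k) ι).O 1 ≅ CohB1.tensorPow L c) := by
  obtain ⟨n, ι, hcl, hι, A, B, hA, hB, ⟨i⟩⟩ := exists_closedImmersion_pow (X ↘ Spec (CommRingCat.of k)) hL
  exact ⟨n, A * B, ι, Nat.mul_pos hA hB, hι, hcl, ⟨(i : (embData (k := k) ι).O 1 ≅ _) ≪≫ M2.tensorPowPow L A B⟩⟩

omit [AlgebraicGeometry.IsReduced X] [Infinite k] in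
theorem a_emb {n c : ℕ} {ι : X ⟶ CohB1.ProjSpace n k} [IsClosedImmersion ι]
    (i : (embData (k := k) ι).O 1 ≅ CohB1.tensorPow L c) {M : X.Modules} (hM : Coh.IsCoh M) :
    a k ((embData (k := k) ι).O 1) M = (c : ℚ) * a k L M := by
  rw [← a_pow (k := k) hd hL.1 hM c, a, a, CurveCoh17.euler_iso (M2.tensorIso (Iso.refl M) i)]

omit [AlgebraicGeometry.IsReduced X] [Infinite k] in
/-- The twist as a twist along the embedding. -/
theorem nonempty_twistIso {n c : ℕ} {ι : X ⟶ CohB1.ProjSpace n k} [IsClosedImmersion ι]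
    (i : (embData (k := k) ι).O 1 ≅ CohB1.tensorPow L c) (F : X.Modules) (j q : ℕ) :
    Nonempty (ShStab.twist X L F (j + c * q) ≅
      (embData (k := k) ι).tw (CohB1.tensorMod F (CohB1.tensorPow L j)) (q : ℤ)) :=
  ⟨M2.tensorIso (Iso.refl F) (M2.tensorPowAdd L j (c * q) ≪≫ M2.tensorIso (Iso.refl _)
      ((M2.tensorPowPow L c q).symm ≪≫ M2.tensorPowIso i.symm q ≪≫ (embData (k := k) ι).powIso q)) ≪≫
    (M2.tensorAssoc F (CohB1.tensorPow L j) ((embData (k := k) ι).O (q : ℤ))).symm⟩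

/-- Submodules of a small twist are bounded too. -/
theorem sub_bound_pow {n c : ℕ} {ι : X ⟶ CohB1.ProjSpace n k} [IsClosedImmersion ι]
    (i : (embData (k := k) ι).O 1 ≅ CohB1.tensorPow L c) {F : X.Modules} (hF : Coh.IsCoh F) {K : ℚ} {αm : ℕ}
    (hK : ∀ (G : X.Modules) (g : G ⟶ F), Mono g → Coh.IsCoh G → ¬ IsZero G → e k G ≤ K) (hα : a k L F ≤ αm)
    {j : ℕ} (hj : j ≤ c) (G : X.Modules) (g : G ⟶ CohB1.tensorMod F (CohB1.tensorPow L j)) (hg : Mono g)
    (hG : Coh.IsCoh G) : e k G ≤ max K 0 + c * αm := by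
  haveI : IsNoetherian X := VB17.isNoetherian_of_over (k := k) (X := X)
  let D := embData (k := k) ι
  haveI := hg
  have hFj : Coh.IsCoh (CohB1.tensorMod F (CohB1.tensorPow L j)) := isCoh_twist (k := k) hd hL.1 hF j
  obtain ⟨hQ, -, haG⟩ := vals_coker (k := k) hd hL.1 hG hFj g
  rw [(e_pow (k := k) hd hL.1 j hF).2] at haG
  have hQ0 := a_nonneg (k := k) hd hL hQ
  have hG0 := a_nonneg (k := k) hd hL hG
  let Tj := CohB1.tensorPow L (c - j)
  let S := ShortComplex.mk g (cokernel.π g) (cokernel.condition g)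
  have hS : S.ShortExact := { exact := ShortComplex.exact_of_g_is_cokernel _ (cokernelIsCokernel _) }
  have hS1 : (S.map (M2.tensorR Tj)).ShortExact := CurveCoh17.shortExact_tensorR hS Tj fun x =>
    Module.Flat.of_linearEquiv (CurveCoh17.nonempty_stalk_equiv ((M2.isInvertible_iff_isFinLocFreeOfRank_one _).1
      (Amp.isInvertible_tensorPow hL.1 (c - j))) x).some
  have hS2 := D.shortExact_tw hS1 (-1)
  haveI : Mono ((M2.tensorR (D.O (-1))).map ((M2.tensorR Tj).map g)) := hS2.mono_f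
  let u : CohB1.tensorMod (CohB1.tensorMod F (CohB1.tensorPow L j)) Tj ≅ D.tw F 1 :=
    M2.tensorAssoc F (CohB1.tensorPow L j) Tj ≪≫ M2.tensorIso (Iso.refl F)
      ((M2.tensorPowAdd L j (c - j)).symm ≪≫ eqToIso (by rw [Nat.add_sub_cancel' hj]) ≪≫ i.symm)
  let w : D.tw (CohB1.tensorMod (CohB1.tensorMod F (CohB1.tensorPow L j)) Tj) (-1) ≅ F :=
    (M2.tensorR (D.O (-1))).mapIso u ≪≫ D.twTwist F 1 (-1) ≪≫ D.twIso F (by norm_num) ≪≫ D.twZero F
  let G' := D.tw (CohB1.tensorMod G Tj) (-1)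
  have hG' : Coh.IsCoh G' := isCoh_tw (k := k) hd D (isCoh_twist (k := k) hd hL.1 hG (c - j)) (-1)
  let g' : G' ⟶ F := (M2.tensorR (D.O (-1))).map ((M2.tensorR Tj).map g) ≫ w.hom
  have heG' : e k G' = e k G - j * a k L G := by
    have hGT : Coh.IsCoh (CohB1.tensorMod G Tj) := isCoh_twist (k := k) hd hL.1 hG (c - j)
    show e k (D.tw (CohB1.tensorMod G (CohB1.tensorPow L (c - j))) (-1)) = _
    rw [e_tw (k := k) hd D hL.1 c (fun hM => a_emb hd hpure hL i hM) hGT (-1),
      (e_pow (k := k) hd hL.1 (c - j) hG).1, (e_pow (k := k) hd hL.1 (c - j) hG).2, Nat.cast_sub hj]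
    push_cast
    ring
  have hle : e k G' ≤ max K 0 := by
    by_cases hz : IsZero G'
    · rw [(zero_vals k hd hL.1 hz).1]; exact le_max_right _ _
    · exact (hK G' g' inferInstance hG' hz).trans (le_max_left _ _)
  have hjc : (j : ℚ) * a k L G ≤ (c : ℚ) * αm :=
    mul_le_mul (by exact_mod_cast hj) (by linarith) hG0 (Nat.cast_nonneg _)
  linarith

/-- Uniform vanishing and generation. -/
theorem exists_van_gg (K : ℚ) (αm Eb : ℕ) :
    ∃ N₀ : ℕ, ∀ F : X.Modules, Coh.IsCoh F → TorSh.IsTorsionFree F → a k L F ≤ αm → -(Eb : ℚ) ≤ e k F →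
      (∀ (G : X.Modules) (g : G ⟶ F), Mono g → Coh.IsCoh G → ¬ IsZero G → e k G ≤ K) →
      ∀ m : ℕ, N₀ ≤ m → Subsingleton (Coh.HH X (ShStab.twist X L F m) 1) ∧
        Curv2.IsGloballyGenerated (ShStab.twist X L F m) := by
  haveI : IsNoetherian X := VB17.isNoetherian_of_over (k := k) (X := X)
  obtain ⟨n, c, ι, hc0, hι, hcl, ⟨i⟩⟩ := exists_emb (k := k) hd hpure hL
  haveI := hcl
  let D := embData (k := k) ι
  have hA : CohB1.IsAmple (D.O 1) := NumPoly18.isAmple_pullback_twistProjSpace ι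
  let K' : ℚ := max K 0 + c * αm
  obtain ⟨N, hN⟩ := exists_nat_gt (K' + (Module.finrank k (Coh.HH X (Coh.structureModule X) 1) : ℚ))
  let B : ℕ := N * c * αm + Eb
  refine ⟨c * (B + 2), fun F hF ht hα he hK m hm => ?_⟩
  obtain ⟨j, q, hj, rfl⟩ : ∃ j q : ℕ, j < c ∧ m = j + c * q := ⟨m % c, m / c, Nat.mod_lt _ hc0, (Nat.mod_add_div m c).symm⟩
  have hq : B + 1 ≤ q := by
    by_contra h
    have : c * q + c ≤ c * (B + 1) := by
      rw [← Nat.mul_succ]; exact Nat.mul_le_mul_left c (by omega)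
    have h2 : c * (B + 1) ≤ c * (B + 2) := Nat.mul_le_mul_left c (by omega)
    omega
  let F' := CohB1.tensorMod F (CohB1.tensorPow L j)
  have hF' : Coh.IsCoh F' := isCoh_twist (k := k) hd hL.1 hF j
  obtain ⟨he', ha'⟩ := e_pow (k := k) hd hL.1 j hF
  have hreg := isReg_of_bound (k := k) hd ι hpure hA hL c hc0 (fun hM => a_emb hd hpure hL i hM) hF'
    (tf_tensor_pow (k := k) hd hL.1 j hF ht) K' (fun G g hg hG _ => sub_bound_pow hd hpure hL i hF hK hα hj.le G g hg hG)
    N hN B (by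
      rw [ha', he']
      have h7 : (N : ℚ) * c * a k L F ≤ (N : ℚ) * c * αm :=
        mul_le_mul_of_nonneg_left hα (mul_nonneg (Nat.cast_nonneg _) (Nat.cast_nonneg _))
      have h8 : 0 ≤ (j : ℚ) * a k L F := mul_nonneg (Nat.cast_nonneg _) (a_nonneg (k := k) hd hL hF)
      simp only [B]
      push_cast
      linarith)
  obtain ⟨u⟩ := nonempty_twistIso hd hpure hL i F j q
  have hreg' := hreg.of_le k (show -(N : ℤ) + 1 + (B : ℤ) ≤ (q : ℤ) by omega)
  refine ⟨?_, ?_⟩
  · haveI := hreg'.van k (i := 1) le_rfl (r := (q : ℤ)) (by omega)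
    exact (hequiv k u 1).toEquiv.subsingleton
  · obtain ⟨σ, p, hp⟩ := hreg'.isGloballyGenerated D k (D.exists_gg_large hA hF')
    exact ⟨σ, p ≫ u.inv, epi_comp _ _⟩

/-- Sections of twisted submodules, ample polarisation. -/
theorem exists_dichotomy' (K : ℚ) (αm jn : ℕ) :
    ∃ N₀ : ℕ, ∀ F : X.Modules, Coh.IsCoh F → TorSh.IsTorsionFree F → a k L F ≤ αm →
      (∀ (G : X.Modules) (g : G ⟶ F), Mono g → Coh.IsCoh G → ¬ IsZero G → e k G ≤ K) →
      ∀ m : ℕ, N₀ ≤ m → ∀ (P : X.Modules) (g : P ⟶ F), Mono g → Coh.IsCoh P →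
        (Module.finrank k (Coh.HH X (ShStab.twist X L P m) 0) : ℚ) = e k P + m * a k L P ∨
        (Module.finrank k (Coh.HH X (ShStab.twist X L P m) 0) : ℚ) ≤ m * a k L P - jn := by
  haveI : IsNoetherian X := VB17.isNoetherian_of_over (k := k) (X := X)
  obtain ⟨n, c, ι, hc0, hι, hcl, ⟨i⟩⟩ := exists_emb (k := k) hd hpure hL
  haveI := hcl
  let D := embData (k := k) ι
  have hA : CohB1.IsAmple (D.O 1) := NumPoly18.isAmple_pullback_twistProjSpace ι
  have hva := isRelVeryAmplePn_emb (k := k) hd ι hι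
  let K' : ℚ := max K 0 + c * αm
  obtain ⟨jn', hjn'⟩ := exists_nat_ge (max K' 0 + jn)
  obtain ⟨N, hN⟩ := exists_dichotomy (k := k) hd hpure (L := D.O 1) hA hva K' (c * αm) jn'
  refine ⟨c * (N + 1), fun F hF ht hα hK m hm P g hg hP => ?_⟩
  haveI := hg
  obtain ⟨j, q, hj, rfl⟩ : ∃ j q : ℕ, j < c ∧ m = j + c * q := ⟨m % c, m / c, Nat.mod_lt _ hc0, (Nat.mod_add_div m c).symm⟩
  have hq : N ≤ q := by
    by_contra h
    have : c * q + c ≤ c * N := by
      rw [← Nat.mul_succ]; exact Nat.mul_le_mul_left c (by omega)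
    have h2 : c * N ≤ c * (N + 1) := Nat.mul_le_mul_left c (by omega)
    omega
  let F' := CohB1.tensorMod F (CohB1.tensorPow L j)
  have hF' : Coh.IsCoh F' := isCoh_twist (k := k) hd hL.1 hF j
  let P' := CohB1.tensorMod P (CohB1.tensorPow L j)
  have hP' : Coh.IsCoh P' := isCoh_twist (k := k) hd hL.1 hP j
  have hS1 := CurveCoh17.shortExact_tensorR (S := ShortComplex.mk g (cokernel.π g) (cokernel.condition g))
    { exact := ShortComplex.exact_of_g_is_cokernel _ (cokernelIsCokernel _) } (CohB1.tensorPow L j) fun x =>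
      Module.Flat.of_linearEquiv (CurveCoh17.nonempty_stalk_equiv ((M2.isInvertible_iff_isFinLocFreeOfRank_one _).1
        (Amp.isInvertible_tensorPow hL.1 j)) x).some
  haveI : Mono ((M2.tensorR (CohB1.tensorPow L j)).map g) := hS1.mono_f
  have h := hN F' hF' (tf_tensor_pow (k := k) hd hL.1 j hF ht)
    (by
      rw [a_emb hd hpure hL i hF', (e_pow (k := k) hd hL.1 j hF).2]
      push_cast
      exact mul_le_mul_of_nonneg_left hα (Nat.cast_nonneg _))
    (fun G h hh hG _ => sub_bound_pow hd hpure hL i hF hK hα hj.le G h hh hG) q hq P'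
    ((M2.tensorR (CohB1.tensorPow L j)).map g) inferInstance hP'
  obtain ⟨u⟩ := nonempty_twistIso hd hpure hL i P j q
  let v : ShStab.twist X (D.O 1) P' q ≅ D.tw P' (q : ℤ) := M2.tensorIso (Iso.refl P') (D.powIso q)
  have hfr : Module.finrank k (Coh.HH X (ShStab.twist X (D.O 1) P' q) 0) =
      Module.finrank k (Coh.HH X (ShStab.twist X L P (j + c * q)) 0) :=
    LinearEquiv.finrank_eq (hequiv k (v ≪≫ u.symm) 0)
  rw [hfr, a_emb hd hpure hL i hP', (e_pow (k := k) hd hL.1 j hP).1, (e_pow (k := k) hd hL.1 j hP).2] at h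
  rcases h with h | h
  · left
    rw [h]
    push_cast
    ring
  · right
    have hja : 0 ≤ (j : ℚ) * a k L P := mul_nonneg (Nat.cast_nonneg _) (a_nonneg (k := k) hd hL hP)
    push_cast
    linarith

end Groth.Agent.Comp17
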