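import Groth.Agent.Lib.Comp17.Num
import Groth.Agent.Lib.CurveCoh17.GenericZero
import Groth.Agent.Lib.TFOne27.Basic
import Groth.Agent.Lib.VB17.Proper
import Groth.Agent.Lib.CMReg18.Avoid
import Groth.Agent.Lib.CMReg18.Hyperplane
import Groth.Agent.Lib.Ample18.Sections
import Groth.Agent.Lib.Twist.Pullback

/-!
# Torsion free sheaves on a reduced curve: uniform regularity from a bound on subsheaves
-/

set_option autoImplicit false
set_option linter.style.haveILetI false
set_option backward.isDefEq.respectTransparency false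
set_option backward.isDefEq.respectTransparency.types false
set_option maxHeartbeats 1000000

universe u

open CategoryTheory CategoryTheory.Limits AlgebraicGeometry TopologicalSpace

noncomputable section

namespace Groth.Agent.Comp17

open Groth.Agent Groth.Agent.M1 Groth.Agent.M2 Groth.Agent.CurveCoh17

variable {k : Type u} [Field k] {X : Scheme.{u}} [X.Over (Spec (CommRingCat.of k))]
  [IsProper (X ↘ Spec (CommRingCat.of k))] (hd : topologicalKrullDim X = 1)

include k hd

/-- `χ` is linear in twists. -/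
theorem e_twist {L : X.Modules} (hL : PicF.IsInvertible L) {M : X.Modules} (hM : Coh.IsCoh M) (n : ℕ) :
    e k (CohB1.tensorMod M (CohB1.tensorPow L n)) = e k M + n * a k L M := by
  have h := ShStab28.hilb_spec k hL hM n
  rw [hilb_line k hd hL hM] at h
  simp only [Polynomial.eval_add, Polynomial.eval_mul, Polynomial.eval_C, Polynomial.eval_X] at h
  show (Curv2.euler k X (ShStab.twist X L M n) : ℚ) = _
  rw [h]
  ring

/-- The multiplicity for a power. -/
theorem a_pow {L : X.Modules} (hL : PicF.IsInvertible L) {M : X.Modules} (hM : Coh.IsCoh M) (n : ℕ) :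
    a k (CohB1.tensorPow L n) M = n * a k L M := by
  have h := e_twist (k := k) hd hL hM n
  rw [e, e] at h
  rw [a]
  push_cast
  linarith

theorem a_nonneg {L : X.Modules} (hL : CohB1.IsAmple L) {M : X.Modules} (hM : Coh.IsCoh M) : 0 ≤ a k L M := by
  by_cases h : topologicalKrullDim (CohB1.support M) = ((1 : ℕ) : WithBot ℕ∞)
  · exact (a_pos k hd hL hM h).le
  · have hle : topologicalKrullDim (CohB1.support M) ≤ ((0 : ℕ) : WithBot ℕ∞) := by
      have h1 := dim_le hd M
      revert h h1
      generalize topologicalKrullDim (CohB1.support M) = t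
      intro h h1
      induction t using WithBot.recBotCoe with
      | bot => exact bot_le
      | coe n =>
        have h1' : n ≤ ((1 : ℕ) : ℕ∞) := WithBot.coe_le_coe.1 h1
        have h' : n ≠ ((1 : ℕ) : ℕ∞) := fun hn => h (by rw [hn]; rfl)
        refine WithBot.coe_le_coe.2 ?_
        obtain ⟨m, rfl⟩ : ∃ m : ℕ, n = (m : ℕ∞) := ⟨n.toNat, (ENat.coe_toNat (fun ht => by
          rw [ht] at h1'; exact absurd h1' (by simp))).symm⟩
        have h1'' : m ≤ 1 := by exact_mod_cast h1'
        have h'' : m ≠ 1 := fun hm => h' (by rw [hm])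
        exact_mod_cast (show m ≤ 0 by omega)
    have hdeg := ShStab28.natDegree_hilb_le k hL.1 hM hle
    rw [← (coeffs k hd hL.1 hM).2, Polynomial.coeff_eq_zero_of_natDegree_lt (by omega)]

theorem exists_int_a (L M : X.Modules) : ∃ z : ℤ, a k L M = (z : ℚ) :=
  ⟨Curv2.euler k X (CohB1.tensorMod M L) - Curv2.euler k X M, by rw [a]; push_cast; rfl⟩

theorem one_le_a {L : X.Modules} (hL : CohB1.IsAmple L) {M : X.Modules} (hM : Coh.IsCoh M)
    (h : topologicalKrullDim (CohB1.support M) = ((1 : ℕ) : WithBot ℕ∞)) : 1 ≤ a k L M := by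
  obtain ⟨z, hz⟩ := exists_int_a (k := k) hd L M
  have := a_pos k hd hL hM h
  rw [hz] at this ⊢
  have hz1 : (0 : ℤ) < z := by exact_mod_cast this
  exact_mod_cast (show (1 : ℤ) ≤ z by omega)

/-- Nonzero coherent submodules of a torsion free module have one-dimensional support. -/
theorem dim_of_tf [AlgebraicGeometry.IsReduced X] (hpure : ∀ x : X, ¬ IsOpen ({x} : Set X))
    {F : X.Modules} (hF : Coh.IsCoh F) (ht : TorSh.IsTorsionFree F) {G : X.Modules} (hG : Coh.IsCoh G)
    (ι : G ⟶ F) [Mono ι] (h0 : ¬ IsZero G) :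
    topologicalKrullDim (CohB1.support G) = ((1 : ℕ) : WithBot ℕ∞) := by
  haveI : IsNoetherian X := VB17.isNoetherian_of_over (k := k) (X := X)
  have hι : ι ≠ 0 := fun h => h0 (IsZero.of_mono_eq_zero ι h)
  obtain ⟨η, hη, hne⟩ : ∃ η ∈ genericPoints (X : Type u), ∃ a, stalkLin ι η a ≠ 0 := by
    by_contra hn
    push Not at hn
    exact hι (TFOne27.hom_eq_zero hF ht ι fun η hη a => hn η hη a)
  obtain ⟨b, hb⟩ := hne
  have hηs : η ∈ CohB1.support G := fun hs => hb (by
    rw [@Subsingleton.elim _ hs b 0, map_zero])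
  have hcl : IsClosed (CohB1.support G) := by
    rw [← M1.support_annSheaf hG.1 hG.2]
    exact (M1.annSheaf hG.1 hG.2).support.isClosed
  have hmem : ∀ y ∈ closure ({η} : Set X), y ∈ CohB1.support G := fun y hy =>
    hcl.closure_subset_iff.2 (Set.singleton_subset_iff.2 hηs) hy
  obtain ⟨y, hy, hne'⟩ : ∃ y ∈ closure ({η} : Set X), y ≠ η := by
    by_contra hn
    push Not at hn
    have hC : closure ({η} : Set X) ∈ irreducibleComponents (X : Type u) := hη
    have heq : closure ({η} : Set X) = {η} :=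
      Set.eq_singleton_iff_unique_mem.2 ⟨subset_closure rfl, hn⟩
    refine hpure η ?_
    have hfin : ((irreducibleComponents (X : Type u)) \ {closure ({η} : Set X)}).Finite :=
      NoetherianSpace.finite_irreducibleComponents.sdiff
    have hopen : IsOpen (⋃ C ∈ (irreducibleComponents (X : Type u)) \ {closure ({η} : Set X)}, C)ᶜ :=
      (hfin.isClosed_biUnion fun C hC' => isClosed_of_mem_irreducibleComponents C hC'.1).isOpen_compl
    have : ({η} : Set X) = (⋃ C ∈ (irreducibleComponents (X : Type u)) \ {closure ({η} : Set X)}, C)ᶜ := by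
      ext z
      constructor
      · rintro rfl
        intro hz
        obtain ⟨C, ⟨hC1, hC2⟩, hzC⟩ := Set.mem_iUnion₂.1 hz
        have hsub : closure ({z} : Set X) ⊆ C :=
          (isClosed_of_mem_irreducibleComponents C hC1).closure_subset_iff.2 (Set.singleton_subset_iff.2 hzC)
        exact hC2 (Set.Subset.antisymm (hC.2 hC1.1 hsub) hsub)
      · intro hz
        have hzc : irreducibleComponent z = closure ({η} : Set X) := by
          by_contra hne2
          exact hz (Set.mem_iUnion₂.2 ⟨_, ⟨irreducibleComponent_mem_irreducibleComponents z, hne2⟩,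
            mem_irreducibleComponent⟩)
        rw [heq] at hzc
        have hz' : z ∈ irreducibleComponent z := mem_irreducibleComponent
        rw [hzc] at hz'
        exact hz'
    rw [this]
    exact hopen
  refine le_antisymm (dim_le hd G) ?_
  have hlts : (⟨closure {(⟨y, hmem y hy⟩ : CohB1.support G)}, isIrreducible_singleton.closure, isClosed_closure⟩ :
        IrreducibleCloseds (CohB1.support G)) <
      ⟨closure {(⟨η, hηs⟩ : CohB1.support G)}, isIrreducible_singleton.closure, isClosed_closure⟩ := by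
    have hmy : (⟨y, hmem y hy⟩ : CohB1.support G) ∈ closure {(⟨η, hηs⟩ : CohB1.support G)} := by
      rw [Topology.IsInducing.subtypeVal.closure_eq_preimage_closure_image, Set.mem_preimage, Set.image_singleton]
      exact hy
    refine lt_of_le_of_ne ?_ fun h => ?_
    · show closure {(⟨y, hmem y hy⟩ : CohB1.support G)} ⊆ closure {(⟨η, hηs⟩ : CohB1.support G)}
      exact closure_minimal (Set.singleton_subset_iff.2 hmy) isClosed_closure
    · have h' : closure {(⟨y, hmem y hy⟩ : CohB1.support G)} = closure {(⟨η, hηs⟩ : CohB1.support G)} :=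
        congrArg IrreducibleCloseds.carrier h
      have hηy : (⟨η, hηs⟩ : CohB1.support G) ∈ closure {(⟨y, hmem y hy⟩ : CohB1.support G)} := h' ▸ subset_closure rfl
      rw [Topology.IsInducing.subtypeVal.closure_eq_preimage_closure_image, Set.mem_preimage, Set.image_singleton] at hηy
      exact hne' ((specializes_iff_mem_closure.2 hy).antisymm (specializes_iff_mem_closure.2 hηy)).eq.symm
  have hpos : (0 : WithBot ℕ∞) < Order.krullDim (IrreducibleCloseds (CohB1.support G)) :=
    Order.krullDim_pos_iff.2 ⟨_, _, hlts⟩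
  show ((1 : ℕ) : WithBot ℕ∞) ≤ Order.krullDim (IrreducibleCloseds (CohB1.support G))
  rw [Nat.cast_one]
  revert hpos
  generalize Order.krullDim (IrreducibleCloseds (CohB1.support G)) = t
  intro h
  induction t using WithBot.recBotCoe with
  | bot => exact absurd h (by simp)
  | coe n => exact WithBot.one_le_coe.2 (Order.one_le_iff_pos.2 (WithBot.coe_pos.1 h))

variable {n : ℕ} (ι : X ⟶ CohB1.ProjSpace n k) [IsClosedImmersion ι]

/-- The twisting data of an embedding. -/
abbrev embData : CMReg18.TwistData X := (CMReg18.projData k n).pullback ι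

theorem isCoh_tw (D : CMReg18.TwistData X) {F : X.Modules} (hF : Coh.IsCoh F) (d : ℤ) : Coh.IsCoh (D.tw F d) := by
  haveI : IsNoetherian X := VB17.isNoetherian_of_over (k := k) (X := X)
  exact isCoh_tensor hF (Snapper.isCoh_of_isInvertible (D.inv d))

/-- The Euler characteristics of all twists. -/
theorem e_tw (D : CMReg18.TwistData X) {L : X.Modules} (hL : PicF.IsInvertible L) (c : ℕ)
    (hc : ∀ {M : X.Modules}, Coh.IsCoh M → a k (D.O 1) M = c * a k L M)
    {F : X.Modules} (hF : Coh.IsCoh F) (d : ℤ) : e k (D.tw F d) = e k F + d * (c * a k L F) := by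
  have hnat : ∀ {M : X.Modules}, Coh.IsCoh M → ∀ j : ℕ, e k (D.tw M (j : ℤ)) = e k M + j * a k (D.O 1) M :=
    fun {M} hM j => by
      exact (e_iso k (M2.tensorIso (Iso.refl M) (D.powIso j))).symm.trans (e_twist hd (D.inv 1) hM j)
  have hFd := isCoh_tw (k := k) hd D hF d
  have hsum : ∀ j : ℕ, e k (D.tw F (d + j)) = e k (D.tw F d) + j * a k (D.O 1) (D.tw F d) := fun j => by
    rw [← e_iso k (D.twTwist F d j)]
    exact hnat hFd j
  rcases le_or_gt 0 d with h | h
  · obtain ⟨j, rfl⟩ : ∃ j : ℕ, d = j := ⟨d.toNat, by omega⟩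
    rw [hnat hF j, hc hF]
    push_cast
    ring
  · obtain ⟨j, rfl⟩ : ∃ j : ℕ, d = -(j : ℤ) := ⟨(-d).toNat, by omega⟩
    have h0 := hsum j
    have h1 := hsum (j + 1)
    have q0 := hnat hF 0
    have q1 := hnat hF 1
    rw [e_iso k (D.twIso F (show -(j : ℤ) + j = ((0 : ℕ) : ℤ) by simp))] at h0
    rw [e_iso k (D.twIso F (show -(j : ℤ) + ((j + 1 : ℕ) : ℤ) = ((1 : ℕ) : ℤ) by push_cast; ring))] at h1
    rw [hc hF] at q1
    rw [q0] at h0
    rw [q1] at h1
    push_cast at h0 h1 ⊢
    have hx : a k (D.O 1) (D.tw F (-(j : ℤ))) = (c : ℚ) * a k L F := by linarith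
    rw [hx] at h0
    linarith

/-- The vanishing of sections of a negative twist, from a bound on the submodules. -/
theorem h0_vanish [AlgebraicGeometry.IsReduced X] (hpure : ∀ x : X, ¬ IsOpen ({x} : Set X))
    (D : CMReg18.TwistData X) {L : X.Modules} (hL : CohB1.IsAmple L) (c : ℕ) (hc0 : 0 < c)
    (hc : ∀ {M : X.Modules}, Coh.IsCoh M → a k (D.O 1) M = c * a k L M)
    {F : X.Modules} (hF : Coh.IsCoh F) (ht : TorSh.IsTorsionFree F) (K : ℚ)
    (hK : ∀ (G : X.Modules) (j : G ⟶ F), Mono j → Coh.IsCoh G → ¬ IsZero G → e k G ≤ K)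
    (N : ℕ) (hN : K + (Module.finrank k (Coh.HH X (Coh.structureModule X) 1) : ℚ) < N) :
    Subsingleton (Coh.HH X (D.tw F (-(N : ℤ))) 0) := by
  haveI : IsNoetherian X := VB17.isNoetherian_of_over (k := k) (X := X)
  have hX : CurveLike k X := VB17.curveLike hd
  haveI := hX.separated
  by_contra hn
  rw [not_subsingleton_iff_nontrivial] at hn
  obtain ⟨z, hz⟩ := exists_ne (0 : Coh.HH X (D.tw F (-(N : ℤ))) 0)
  have hs : secHom (hh0 _ z) ≠ 0 := fun h => hz ((hh0 _).injective (by
    rw [map_zero, ← secHom_app_one (hh0 _ z), h]; rfl))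
  let φ := secHom (hh0 _ z)
  let G₀ := Abelian.image φ
  have hcO : Coh.IsCoh (Coh.structureModule X) := CurveCoh17.isCoh_structureModule
  have hFd := isCoh_tw (k := k) hd D hF (-(N : ℤ))
  have hG0 : Coh.IsCoh G₀ := isCoh_of_mono (Abelian.image.ι φ) hFd
    (isQCoh_kernel hFd.1 (M1.isCoh_cokernel hcO.1 hFd φ).1 _)
  -- the Euler characteristic of the image is bounded below
  let T : ShortComplex X.Modules :=
    ShortComplex.mk (kernel.ι (Abelian.factorThruImage φ)) (Abelian.factorThruImage φ) (kernel.condition _)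
  have hT : T.ShortExact :=
    { exact := ShortComplex.exact_of_f_is_kernel _ (kernelIsKernel _) }
  haveI : Subsingleton (Coh.HH X T.X₁ (1 + 1)) :=
    subsingleton_HH_of_dim hd.le _ (M1.isQCoh_kernel hcO.1 hG0.1 _) 0
  have hsurj : Function.Surjective (hmap k T.g 1) := fun x =>
    (exact_hmap_hdelta k hT 1 x).1 (Subsingleton.elim _ _)
  haveI := hX.fin _ hcO 1
  have hh1 : Module.finrank k (Coh.HH X G₀ 1) ≤ Module.finrank k (Coh.HH X (Coh.structureModule X) 1) :=
    LinearMap.finrank_le_finrank_of_surjective hsurj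
  have hlow : -(Module.finrank k (Coh.HH X (Coh.structureModule X) 1) : ℚ) ≤ e k G₀ := by
    rw [e, (hX.adm hG0).euler_eq]
    push_cast
    have h1 : ((Module.finrank k (Coh.HH X G₀ 1) : ℕ) : ℚ) ≤
        ((Module.finrank k (Coh.HH X (Coh.structureModule X) 1) : ℕ) : ℚ) := by exact_mod_cast hh1
    have h2 : (0 : ℚ) ≤ ((Module.finrank k (Coh.HH X G₀ 0) : ℕ) : ℚ) := Nat.cast_nonneg _
    linarith
  -- twisting back
  have hS := D.shortExact_tw (S := ShortComplex.mk (Abelian.image.ι φ) (cokernel.π (Abelian.image.ι φ))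
    (cokernel.condition _)) { exact := ShortComplex.exact_of_g_is_cokernel _ (cokernelIsCokernel _) } (N : ℤ)
  haveI : Mono ((M2.tensorR (D.O (N : ℤ))).map (Abelian.image.ι φ)) := hS.mono_f
  let j : D.tw G₀ (N : ℤ) ⟶ F := (M2.tensorR (D.O (N : ℤ))).map (Abelian.image.ι φ) ≫
    (D.twTwist F (-(N : ℤ)) N ≪≫ D.twIso F (by simp) ≪≫ D.twZero F).hom
  have hG := isCoh_tw (k := k) hd D hG0 (N : ℤ)
  have hsupp : CohB1.support (D.tw G₀ (N : ℤ)) ⊆ CohB1.support G₀ := fun x hx hzero => hx (by
    haveI : Subsingleton (G₀.presheaf.stalk x : Type u) := hzero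
    refine @Equiv.subsingleton _ _ (M2.stalkEquiv G₀ (D.O (N : ℤ)) x).toEquiv ?_
    refine subsingleton_of_forall_eq 0 fun w => ?_
    induction w using TensorProduct.induction_on with
    | zero => rfl
    | tmul p q => rw [Subsingleton.elim p 0, TensorProduct.zero_tmul]
    | add p q hp hq => rw [hp, hq, add_zero])
  have hG0z : ¬ IsZero (D.tw G₀ (N : ℤ)) := fun hzero => hs (by
    have h1 : IsZero (D.tw (D.tw G₀ (N : ℤ)) (-(N : ℤ))) := (M2.tensorR (D.O (-(N : ℤ)))).map_isZero hzero
    have h2 : IsZero G₀ := h1.of_iso ((D.twTwist G₀ N (-(N : ℤ)) ≪≫ D.twIso G₀ (by simp) ≪≫ D.twZero G₀).symm)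
    show φ = 0
    rw [← Abelian.image.fac φ, h2.eq_of_tgt (Abelian.factorThruImage φ) 0, zero_comp])
  have hdimG := dim_of_tf (k := k) hd hpure hF ht hG j hG0z
  have ha0 : 1 ≤ a k L G₀ := one_le_a hd hL hG0 (dim_of_sub hd hsupp hdimG)
  have hle := hK _ j inferInstance hG hG0z
  rw [e_tw (k := k) hd D hL.1 c (fun hM => hc hM) hG0 (N : ℤ)] at hle
  have hc1 : (1 : ℚ) ≤ c := by exact_mod_cast hc0
  push_cast at hle
  have hN0 : (0 : ℚ) ≤ N := Nat.cast_nonneg _
  have hca : (1 : ℚ) ≤ (c : ℚ) * a k L G₀ := one_le_mul_of_one_le_of_one_le hc1 ha0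
  nlinarith

/-- Uniform regularity. -/
theorem isReg_of_bound [Infinite k] [AlgebraicGeometry.IsReduced X] (hpure : ∀ x : X, ¬ IsOpen ({x} : Set X))
    (hA : CohB1.IsAmple ((embData (k := k) ι).O 1))
    {L : X.Modules} (hL : CohB1.IsAmple L) (c : ℕ) (hc0 : 0 < c)
    (hc : ∀ {M : X.Modules}, Coh.IsCoh M → a k ((embData (k := k) ι).O 1) M = c * a k L M)
    {F : X.Modules} (hF : Coh.IsCoh F) (ht : TorSh.IsTorsionFree F) (K : ℚ)
    (hK : ∀ (G : X.Modules) (j : G ⟶ F), Mono j → Coh.IsCoh G → ¬ IsZero G → e k G ≤ K)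
    (N : ℕ) (hN : K + (Module.finrank k (Coh.HH X (Coh.structureModule X) 1) : ℚ) < N)
    (B : ℕ) (hB : (N : ℚ) * c * a k L F - e k F ≤ B) :
    (embData (k := k) ι).IsReg F (-(N : ℤ) + 1 + B) := by
  haveI : IsNoetherian X := VB17.isNoetherian_of_over (k := k) (X := X)
  have hX : CurveLike k X := VB17.curveLike hd
  let D := embData (k := k) ι
  have hfin : (genericPoints (X : Type u)).Finite :=
    genericPoints.finite NoetherianSpace.finite_irreducibleComponents
  obtain ⟨s₀, hs₀⟩ := CMReg18.exists_section_avoid (k := k) (hfin.image ι.base)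
  let e₀ : Coh.structureModule X ≅ (Scheme.Modules.pullback ι).obj (Coh.structureModule (CohB1.ProjSpace n k)) :=
    (Twist.pullbackUnitIso ι).symm
  let s : Coh.structureModule X ⟶ D.O 1 := e₀.hom ≫ (Scheme.Modules.pullback ι).map s₀
  have hgen : ∀ η ∈ genericPoints (X : Type u), η ∈ CohB1.genLocus (D.O 1) s := fun η hη => by
    have h := hs₀ _ ⟨η, hη, rfl⟩
    show η ∈ CohB1.genLocus ((Scheme.Modules.pullback ι).obj ((CMReg18.projData k n).O 1)) s
    rw [Amp.genLocus_pullback ι ((CMReg18.projData k n).inv 1) s₀ e₀]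
    exact h
  haveI : Mono (D.mulSec s F) := by
    refine Preadditive.mono_of_cancel_zero _ fun {W} g hg => ?_
    haveI := hF.1
    have hT : TorSh.IsTorsionFree (D.tw F (-1)) := fun x => by
      haveI := ht x
      obtain ⟨eO⟩ := CurveCoh17.nonempty_stalk_equiv
        ((isInvertible_iff_isFinLocFreeOfRank_one _).1 (D.inv (-1))) x
      exact (M2.stalkEquiv F (D.O (-1)) x ≪≫ₗ TensorProduct.congr (LinearEquiv.refl _ _)
        (eO ≪≫ₗ LinearEquiv.funUnique (Fin 1) _ _) ≪≫ₗ TensorProduct.rid _ _).injective.moduleIsTorsionFree _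
          (map_smul _)
    refine TFOne27.hom_eq_zero (isCoh_tw (k := k) hd D hF (-1)) hT g fun η hη a => ?_
    have hb : Function.Injective (stalkLin (D.mulSec s F) η) := by
      have h1 := Snapper.bijective_mulMap_stalk (D.inv (-1)) (Snapper.secMap s D.invIso) F η
        ((Snapper.surjective_secMap_iff (D.inv 1) (D.inv (-1)) _ _ η).2 (hgen η hη))
      have h2 := Snapper.bijective_stalkLin_iso (M2.tensorComm F (D.O (-1))) η
      have h : ⇑(stalkLin (D.mulSec s F) η) =
          ⇑(stalkLin (Snapper.mulMap (Snapper.secMap s D.invIso) F) η) ∘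
            ⇑(stalkLin (M2.tensorComm F (D.O (-1))).hom η) := funext fun b => stalkLin_comp _ _ η b
      rw [h]
      exact h1.1.comp h2.1
    refine hb ?_
    rw [map_zero, ← stalkLin_comp, hg]
    exact TFOne27.stalkLin_zero η a
  let S : ShortComplex X.Modules := ShortComplex.mk (D.mulSec s F) (cokernel.π _) (cokernel.condition _)
  have hS : S.ShortExact :=
    { exact := ShortComplex.exact_of_g_is_cokernel _ (cokernelIsCokernel _) }
  have hcQ : Coh.IsCoh (cokernel (D.mulSec s F)) :=
    M1.isCoh_cokernel (isCoh_tw (k := k) hd D hF (-1)).1 hF _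
  obtain ⟨P, hP⟩ := exists_suppIn_of_maximal hd.le hcQ fun g hg b => by
    by_contra hb
    have h1 : g ∈ CohB1.support (cokernel (D.mulSec s F)) := fun hs => hb (@Subsingleton.elim _ hs b 0)
    exact (D.support_coker_mulSec_subset s h1).2 (hgen g (TFOne27.mem_genericPoints.2 hg))
  have hG : D.IsReg S.X₃ (-(N : ℤ) + 1) := fun i hi => by
    obtain ⟨i, rfl⟩ := Nat.exists_eq_add_of_le hi
    rw [Nat.add_comm]
    exact (hP.tensor _).subsingleton_HH i
  obtain ⟨-, -, hreg⟩ := D.h1_bounds k hS (Iso.refl _) hG (D.exists_van_large k hA hF)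
    fun a => D.finite_HH k hF a 1
  refine hreg.of_le k ?_
  have hFd := isCoh_tw (k := k) hd D hF (-(N : ℤ))
  have h0 := h0_vanish (k := k) hd hpure D hL c hc0 (fun hM => hc hM) hF ht K hK N hN
  have he := e_tw (k := k) hd D hL.1 c (fun hM => hc hM) hF (-(N : ℤ))
  rw [e, (hX.adm hFd).euler_eq, Module.finrank_zero_of_subsingleton (M := Coh.HH X (D.tw F (-(N : ℤ))) 0)] at he
  have h1 : D.h1 k S.X₂ (-(N : ℤ) + 1 - 1) = Module.finrank k (Coh.HH X (D.tw F (-(N : ℤ))) 1) := by
    rw [show -(N : ℤ) + 1 - 1 = -(N : ℤ) by ring]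
  rw [h1]
  have : (Module.finrank k (Coh.HH X (D.tw F (-(N : ℤ))) 1) : ℚ) ≤ (B : ℚ) := by
    push_cast at he
    unfold e at hB
    unfold e at he
    linarith
  have hn : Module.finrank k (Coh.HH X (D.tw F (-(N : ℤ))) 1) ≤ B := by exact_mod_cast this
  omega

end Groth.Agent.Comp17
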