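import Groth.Agent.Lib.Comp17.SubBound
import Groth.Agent.Lib.CMReg18.QuotFam
import Groth.Agent.Lib.NefH1.Mult
import Groth.Agent.S19314
import Groth.Prelude.Def_DecSh2
import Groth.Prelude.Def_LCI2

/-!
# Boundedness for tensor fields semistable in the sectional sense
-/

set_option autoImplicit false
set_option linter.style.haveILetI false
set_option backward.isDefEq.respectTransparency false
set_option backward.isDefEq.respectTransparency.types false
set_option maxHeartbeats 1000000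

universe u

open CategoryTheory CategoryTheory.Limits AlgebraicGeometry TopologicalSpace

noncomputable section

namespace Groth.Agent.Comp17

open Groth.Agent Groth.Agent.M1 Groth.Agent.M2 Groth.Agent.CurveCoh17

variable {k : Type u} [Field k] {X : Scheme.{u}} [X.Over (Spec (CommRingCat.of k))]
  [IsProper (X ↘ Spec (CommRingCat.of k))] (hd : topologicalKrullDim X = 1)

omit [IsProper (X ↘ Spec (CommRingCat.of k))] in
theorem mult_cast (L M : X.Modules) : ((DecSh.mult k X L M : ℤ) : ℚ) = a k L M := by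
  rw [DecSh.mult, a]
  push_cast
  rfl

include k hd

variable [AlgebraicGeometry.IsReduced X] [Infinite k] (hpure : ∀ x : X, ¬ IsOpen ({x} : Set X))
  {L : X.Modules} (hL : CohB1.IsAmple L) (hva : RelAmple.IsRelVeryAmplePn (X ↘ Spec (CommRingCat.of k)) L)

include hpure hL hva

/-- The bound on submodules. -/
theorem exists_sectional_bound {δ : ℚ} (hδ : 0 < δ) (α χ : ℤ) (A B : ℕ) (Dm : X.Modules) :
    ∃ (N₁ : ℕ) (K : ℚ), ∀ (F : X.Modules), Coh.IsCoh F → TorSh.IsTorsionFree F → DecSh.mult k X L F = α →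
      Curv2.euler k X F = χ → ∀ T : DecSh.TF F A B Dm, (T.IsSemistable k L δ ∨ ∃ m : ℕ, N₁ ≤ m ∧
            ∀ 𝓕 : DecSh.WFilt F, (∀ i, Coh.IsCoh ((𝓕.piece i : Subobject F) : X.Modules)) →
              (∑ i, 𝓕.wt i * ((DecSh.mult k X L (cokernel (𝓕.piece i).arrow) : ℚ) *
                  (Curv2.euler k X (ShStab.twist X L F m) : ℚ) -
                (α : ℚ) * (Module.finrank k (Coh.HH X (ShStab.twist X L (cokernel (𝓕.piece i).arrow) m) 0) : ℚ))) +
                δ * T.mu k L 𝓕 ≤ 0) →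
        ∀ (G : X.Modules) (j : G ⟶ F), Mono j → Coh.IsCoh G → ¬ IsZero G → e k G ≤ K := by
  haveI : IsNoetherian X := VB17.isNoetherian_of_over (k := k) (X := X)
  obtain ⟨n, ι, hcl, hι, ⟨iO⟩⟩ := NefH1.exists_closedImmersion_of_pn k (X ↘ Spec (CommRingCat.of k)) hva
  haveI := hcl
  let D := embData (k := k) ι
  have hA : CohB1.IsAmple (D.O 1) := NumPoly18.isAmple_pullback_twistProjSpace ι
  let i1 : D.O 1 ≅ L := iO
  have haL : ∀ M : X.Modules, a k (D.O 1) M = a k L M := fun M => by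
    rw [a, a, CurveCoh17.euler_iso (M2.tensorIso (Iso.refl M) i1)]
  have hfin : (genericPoints (X : Type u)).Finite :=
    genericPoints.finite NoetherianSpace.finite_irreducibleComponents
  obtain ⟨s₀, hs₀⟩ := CMReg18.exists_section_avoid (k := k) (hfin.image ι.base)
  let e₀ : Coh.structureModule X ≅ (Scheme.Modules.pullback ι).obj (Coh.structureModule (CohB1.ProjSpace n k)) :=
    (Twist.pullbackUnitIso ι).symm
  let s : Coh.structureModule X ⟶ D.O 1 := e₀.hom ≫ (Scheme.Modules.pullback ι).map s₀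
  have hgen : ∀ η ∈ genericPoints (X : Type u), η ∈ CohB1.genLocus (D.O 1) s := fun η hη => by
    have h := hs₀ _ ⟨η, hη, rfl⟩
    show η ∈ CohB1.genLocus ((Scheme.Modules.pullback ι).obj ((CMReg18.projData k n).O 1)) s
    rw [Amp.genLocus_pullback ι ((CMReg18.projData k n).inv 1) s₀ e₀]
    exact h
  obtain ⟨jn, hjn⟩ := exists_nat_gt (δ * A + |(χ : ℚ)|)
  let h1O : ℕ := Module.finrank k (Coh.HH X (Coh.structureModule X) 1)
  let r : ℤ := -(jn : ℤ) - h1O - 1
  refine ⟨jn, |(χ : ℚ)| + δ * A + |(r : ℚ)| * |(α : ℚ)|, fun F hF ht hα hχ T hT G' j' hj' hG' hG0' => ?_⟩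
  haveI := hj'
  have hr : (0 : ℚ) ≤ |(r : ℚ)| * |(α : ℚ)| := mul_nonneg (abs_nonneg _) (abs_nonneg _)
  rcases hT with hss | ⟨m, hm, hsec⟩
  · have h := Groth.Agent.S19314.bound_sub hd hpure hL hδ hF ht hα hχ T hss G' j' hj' hG' hG0'
    linarith
  obtain ⟨G, j, hj, hG, hQ, hmax⟩ := exists_max (k := k) hd D hA hF r
  haveI := hj
  have hαq : a k (D.O 1) F = (α : ℚ) := by rw [haL, ← mult_cast, hα]
  have hχq : e k F = (χ : ℚ) := by rw [e, hχ]
  have hcQ : Coh.IsCoh (cokernel j) := M1.isCoh_cokernel hG.1 hF j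
  have hadd := e_add k hd (D.inv 1) (S := ShortComplex.mk j (cokernel.π j) (cokernel.condition j))
    { exact := ShortComplex.exact_of_g_is_cokernel _ (cokernelIsCokernel _) } hG hF hcQ
  dsimp only at hadd
  rw [hαq, hχq] at hadd
  have hF0 : ¬ IsZero F := fun h => hG0' (IsZero.of_mono j' h)
  have hone : (1 : ℚ) ≤ (α : ℚ) := by
    rw [← hαq]
    exact one_le_a (k := k) hd hA hF (dim_of_tf (k := k) hd hpure hF ht hF (𝟙 F) hF0)
  have hG'max := hmax G' j' hj' hG'
  have hjn0 : (0 : ℚ) ≤ (jn : ℚ) := Nat.cast_nonneg _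
  have hh0 : (0 : ℚ) ≤ (h1O : ℚ) := Nat.cast_nonneg _
  have hA0 : (0 : ℚ) ≤ δ * A := mul_nonneg hδ.le (Nat.cast_nonneg _)
  have hrv : (r : ℚ) = -(jn : ℚ) - (h1O : ℚ) - 1 := by simp [r]
  have hr0 : (r : ℚ) ≤ 0 := by rw [hrv]; linarith
  have ha' : 0 ≤ a k (D.O 1) G' := a_nonneg (k := k) hd hA hG'
  have ha'' : (r : ℚ) * a k (D.O 1) G' ≤ 0 := mul_nonpos_of_nonpos_of_nonneg hr0 ha'
  by_cases hgen0 : ∀ η ∈ genericPoints (X : Type u), η ∉ CohB1.support (cokernel j)
  · obtain ⟨S, hS⟩ := exists_suppIn_of_generic (k := k) hd hcQ hgen0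
    obtain ⟨hv, hv'⟩ := vals_suppIn (k := k) hd (D.inv 1) hcQ hS
    have hQ0 : (0 : ℚ) ≤ e k (cokernel j) := by rw [hv]; exact Nat.cast_nonneg _
    have e1 : e k G - r * a k (D.O 1) G ≤ (χ : ℚ) - r * α := by
      have : a k (D.O 1) G = (α : ℚ) := by linarith [hadd.2, hv']
      rw [this]; linarith [hadd.1]
    have e2 : -((r : ℚ) * α) ≤ |(r : ℚ)| * |(α : ℚ)| := by rw [← abs_mul]; exact neg_le_abs _
    linarith [le_abs_self (χ : ℚ)]
  · exfalso
    push Not at hgen0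
    obtain ⟨η, hη, hηs⟩ := hgen0
    have hq1 : (1 : ℚ) ≤ a k (D.O 1) (cokernel j) :=
      one_le_a (k := k) hd hA hcQ (dim_of_generic (k := k) hd hpure hcQ hη hηs)
    have hχlow : -(jn : ℚ) * α < (χ : ℚ) - δ * A * α := by
      have h1 : (δ * A + |(χ : ℚ)|) * α < (jn : ℚ) * α := mul_lt_mul_of_pos_right hjn (by linarith)
      have h2 : |(χ : ℚ)| * 1 ≤ |(χ : ℚ)| * α := mul_le_mul_of_nonneg_left hone (abs_nonneg _)
      linarith [neg_abs_le (χ : ℚ)]
    have hAα : 0 ≤ δ * A * α := mul_nonneg hA0 (by linarith)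
    by_cases hG0 : IsZero G
    · -- the whole module is below the slope
      obtain ⟨z1, z2⟩ := zero_vals k hd (D.inv 1) hG0
      have h := hmax F (𝟙 F) inferInstance hF
      rw [z1, z2, hαq, hχq] at h
      have h3 : (r : ℚ) * α ≤ -(jn : ℚ) * α := mul_le_mul_of_nonneg_right (by linarith) (by linarith)
      linarith
    let P := Subobject.mk j
    let u := Subobject.underlyingIso j
    have htop : P ≠ ⊤ := fun h => by
      haveI : IsIso j := (Subobject.isIso_iff_mk_eq_top j).2 h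
      have hz : IsZero (cokernel j) := isZero_cokernel_of_epi j
      linarith [(zero_vals k hd (D.inv 1) hz).2]
    have hP0 : ¬ IsZero (P : X.Modules) := fun h => hG0 (h.of_iso u.symm)
    have hPc : Coh.IsCoh (P : X.Modules) := CohFound.isCoh_of_iso u.symm hG
    have hs := hsec (DecSh.WFilt.single P htop hP0) fun _ => hPc
    obtain ⟨I, -, hI⟩ := (DecSh.WFilt.single P htop hP0).exists_gam_eq_mu (DecSh.mult k X L F)
      (fun Q => DecSh.mult k X L (Q : X.Modules)) T.nv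
    rw [DecSh.TF.mu, ← hI] at hs
    have hnu := Finset.card_filter_le (Finset.univ : Finset (Fin A))
      (fun i => (DecSh.WFilt.single P htop hP0).mulX (DecSh.mult k X L F)
        (fun Q => DecSh.mult k X L (Q : X.Modules)) (I i) ≤ DecSh.mult k X L (P : X.Modules))
    simp only [Finset.card_univ, Fintype.card_fin] at hnu
    have hnu' : (((DecSh.WFilt.single P htop hP0).nu (DecSh.mult k X L F)
        (fun Q => DecSh.mult k X L (Q : X.Modules)) I ⟨0, Nat.one_pos⟩ : ℕ) : ℚ) ≤ (A : ℚ) := by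
      exact_mod_cast hnu
    have hsum : ∀ f : Fin (DecSh.WFilt.single P htop hP0).t → ℚ, ∑ i, f i = f ⟨0, Nat.one_pos⟩ :=
      fun f => Fin.sum_univ_one f
    rw [DecSh.WFilt.gam, hsum, hsum] at hs
    generalize ((DecSh.WFilt.single P htop hP0).nu (DecSh.mult k X L F)
        (fun Q => DecSh.mult k X L (Q : X.Modules)) I ⟨0, Nat.one_pos⟩ : ℕ) = ν at hs hnu'
    have hw : (DecSh.WFilt.single P htop hP0).wt ⟨0, Nat.one_pos⟩ = 1 := rfl
    have hp : (DecSh.WFilt.single P htop hP0).piece ⟨0, Nat.one_pos⟩ = P := rfl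
    rw [hw, hp, one_mul, one_mul] at hs
    let cI : cokernel P.arrow ≅ cokernel j :=
      cokernelIsoOfEq (Subobject.underlyingIso_hom_comp_eq_mk j).symm ≪≫ cokernelEpiComp u.hom j
    let pw : CohB1.tensorPow L m ≅ D.O (m : ℤ) := M2.tensorPowIso i1.symm m ≪≫ D.powIso m
    let tI : ShStab.twist X L (cokernel P.arrow) m ≅ D.tw (cokernel j) m := M2.tensorIso cI pw
    let tF : ShStab.twist X L F m ≅ D.tw F m := M2.tensorIso (Iso.refl F) pw
    rw [LinearEquiv.finrank_eq (hequiv k tI 0), CurveCoh17.euler_iso tF, mult_cast, mult_cast, mult_cast,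
      a_iso k L cI, a_iso k L u, ← haL, ← haL, ← haL, hαq] at hs
    have hc : ∀ {M : X.Modules}, Coh.IsCoh M → a k (D.O 1) M = ((1 : ℕ) : ℚ) * a k (D.O 1) M := fun {M} _ => by simp
    have hte := e_tw (k := k) hd D (D.inv 1) 1 hc hF (m : ℤ)
    rw [hχq, hαq, e] at hte
    rw [hte] at hs
    have hb := h0_le (k := k) hd D hpure hA s hgen (J := -(jn : ℤ)) (r := r) (by simp only [r, h1O]; omega) hQ hcQ
      (m : ℤ)
    push_cast at hs hb hte
    have hmj : (0 : ℚ) ≤ (m : ℚ) - jn := by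
      have : (jn : ℚ) ≤ (m : ℚ) := by exact_mod_cast hm
      linarith
    have hmax' : ((max 0 ((m : ℤ) + -(jn : ℤ)) : ℤ) : ℚ) = (m : ℚ) - jn := by
      rw [max_eq_right (by omega)]; push_cast; ring
    push_cast at hmax'
    rw [hmax'] at hb
    have hb' : (α : ℚ) * (Module.finrank k (Coh.HH X (D.tw (cokernel j) (m : ℤ)) 0) : ℚ) ≤
        (α : ℚ) * (((m : ℚ) - jn) * a k (D.O 1) (cokernel j)) := mul_le_mul_of_nonneg_left hb (by linarith)
    have hν : δ * ((ν : ℚ) * α) ≤ δ * ((A : ℚ) * α) :=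
      mul_le_mul_of_nonneg_left (mul_le_mul_of_nonneg_right hnu' (by linarith)) hδ.le
    have hAG : 0 ≤ δ * ((A : ℚ) * a k (D.O 1) G) :=
      mul_nonneg hδ.le (mul_nonneg (Nat.cast_nonneg _) (a_nonneg (k := k) hd hA hG))
    have hq2 : δ * A * α * 1 ≤ δ * A * α * a k (D.O 1) (cokernel j) := mul_le_mul_of_nonneg_left hq1 hAα
    have hq3 : a k (D.O 1) (cokernel j) * (-(jn : ℚ) * α) <
        a k (D.O 1) (cokernel j) * ((χ : ℚ) - δ * A * α) := mul_lt_mul_of_pos_left hχlow (by linarith)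
    linarith

/-- Torsion free modules with bounded invariants and bounded submodules form a bounded family. -/
theorem isBounded_of_bound (P : X.Modules → Prop) (K : ℚ) (αm Eb : ℕ)
    (hP : ∀ F, P F → Coh.IsCoh F ∧ TorSh.IsTorsionFree F ∧ |(DecSh.mult k X L F : ℤ)| ≤ αm ∧
      |Curv2.euler k X F| ≤ Eb ∧ ∀ (G : X.Modules) (j : G ⟶ F), Mono j → Coh.IsCoh G → ¬ IsZero G → e k G ≤ K) :
    Pic13.IsBounded k X P := by
  obtain ⟨n, ι, hcl, hι, ⟨iO⟩⟩ := NefH1.exists_closedImmersion_of_pn k (X ↘ Spec (CommRingCat.of k)) hva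
  haveI := hcl
  have hA : CohB1.IsAmple ((embData (k := k) ι).O 1) := NumPoly18.isAmple_pullback_twistProjSpace ι
  let i1 : (embData (k := k) ι).O 1 ≅ L := iO
  have hc : ∀ {M : X.Modules}, Coh.IsCoh M →
      a k ((embData (k := k) ι).O 1) M = ((1 : ℕ) : ℚ) * a k L M := fun {M} _ => by
    rw [a, a, CurveCoh17.euler_iso (M2.tensorIso (Iso.refl M) i1)]
    simp
  classical
  obtain ⟨N, hN⟩ := exists_nat_gt (K + (Module.finrank k (Coh.HH X (Coh.structureModule X) 1) : ℚ))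
  obtain ⟨T, q, h1, h2, 𝔉, h3, h4⟩ := CMReg18.isBounded_regular (k := k) ι hι (-(N : ℤ) + 1 + (N * αm + Eb : ℕ))
    ((Finset.Icc (-(Eb : ℤ)) Eb ×ˢ Finset.Icc (-(αm : ℤ)) αm).image
      (fun p : ℤ × ℤ => fun d : ℤ => p.1 + d * p.2)).finite_toSet
  refine ⟨T, q, h1, h2, 𝔉, h3, fun F hPF => h4 F ?_⟩
  obtain ⟨hF, ht, hαb, heb, hK⟩ := hP F hPF
  refine ⟨hF, isReg_of_bound (k := k) hd ι hpure hA hL 1 one_pos (fun hM => hc hM) hF ht K hK N hN _ ?_, ?_⟩
  · rw [← mult_cast, e]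
    have h5 : (DecSh.mult k X L F : ℤ) ≤ (αm : ℤ) := (le_abs_self _).trans hαb
    have h6 : -(Eb : ℤ) ≤ Curv2.euler k X F := (abs_le.1 heb).1
    have h5' : (DecSh.mult k X L F : ℚ) ≤ (αm : ℚ) := by exact_mod_cast h5
    have h6' : -(Eb : ℚ) ≤ (Curv2.euler k X F : ℚ) := by exact_mod_cast h6
    have h7 : (N : ℚ) * (DecSh.mult k X L F : ℚ) ≤ (N : ℚ) * (αm : ℚ) :=
      mul_le_mul_of_nonneg_left h5' (Nat.cast_nonneg _)
    push_cast
    linarith
  · rw [Finset.mem_coe, Finset.mem_image]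
    refine ⟨(Curv2.euler k X F, DecSh.mult k X L F), Finset.mem_product.2
      ⟨Finset.mem_Icc.2 (abs_le.1 heb), Finset.mem_Icc.2 (abs_le.1 hαb)⟩, funext fun d => ?_⟩
    have h := e_tw (k := k) hd (embData (k := k) ι) hL.1 1 (fun hM => hc hM) hF d
    rw [e, e, ← mult_cast] at h
    push_cast at h
    have h' : Curv2.euler k X ((embData (k := k) ι).tw F d) =
        Curv2.euler k X F + d * DecSh.mult k X L F := by
      rw [← Int.cast_inj (α := ℚ)]; push_cast; linarith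
    exact h'.symm

end Groth.Agent.Comp17
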