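import Groth.Agent.Lib.Comp17.Sectional
import Groth.Agent.Lib.TFOne27.Split

/-!
# Sectional semistability for large twists
-/

set_option autoImplicit false
set_option linter.style.haveILetI false
set_option backward.isDefEq.respectTransparency false
set_option backward.isDefEq.respectTransparency.types false
set_option maxHeartbeats 1000000

universe u

open CategoryTheory CategoryTheory.Limits AlgebraicGeometry TopologicalSpace

noncomputable section

namespace Groth.Agent.Comp17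

open Groth.Agent Groth.Agent.M1 Groth.Agent.M2 Groth.Agent.CurveCoh17

variable {k : Type u} [Field k] {X : Scheme.{u}} [X.Over (Spec (CommRingCat.of k))]
  [IsProper (X ↘ Spec (CommRingCat.of k))] (hd : topologicalKrullDim X = 1)

include k hd

theorem euler_twist_eq {L : X.Modules} (hL : PicF.IsInvertible L) {M : X.Modules} (hM : Coh.IsCoh M) (m : ℕ) :
    (Curv2.euler k X (ShStab.twist X L M m) : ℚ) = e k M + m * a k L M :=
  e_twist (k := k) hd hL hM m

theorem h0_ge_euler {M : X.Modules} (hM : Coh.IsCoh M) :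
    (Curv2.euler k X M : ℚ) ≤ (Module.finrank k (Coh.HH X M 0) : ℚ) := by
  have h := e_h0_h1 (k := k) hd hM
  have h1 : (0 : ℚ) ≤ (Module.finrank k (Coh.HH X M 1) : ℚ) := Nat.cast_nonneg _
  rw [e] at h
  linarith

theorem h0_eq_euler {M : X.Modules} (hM : Coh.IsCoh M) (h : Subsingleton (Coh.HH X M 1)) :
    (Module.finrank k (Coh.HH X M 0) : ℤ) = Curv2.euler k X M := by
  haveI := h
  rw [((VB17.curveLike (k := k) hd).adm hM).euler_eq, Module.finrank_zero_of_subsingleton (M := Coh.HH X M 1)]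
  simp

theorem isCoh_twist {L : X.Modules} (hL : PicF.IsInvertible L) {M : X.Modules} (hM : Coh.IsCoh M) (m : ℕ) :
    Coh.IsCoh (ShStab.twist X L M m) := by
  haveI : IsNoetherian X := VB17.isNoetherian_of_over (k := k) (X := X)
  exact isCoh_tensor hM (Snapper.isCoh_of_isInvertible (Amp.isInvertible_tensorPow hL m))

theorem vals_coker {L : X.Modules} (hL : PicF.IsInvertible L) {M N : X.Modules} (hM : Coh.IsCoh M) (hN : Coh.IsCoh N)
    (j : M ⟶ N) [Mono j] : Coh.IsCoh (cokernel j) ∧ e k N = e k M + e k (cokernel j) ∧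
      a k L N = a k L M + a k L (cokernel j) := by
  haveI : IsNoetherian X := VB17.isNoetherian_of_over (k := k) (X := X)
  have hQ : Coh.IsCoh (cokernel j) := M1.isCoh_cokernel hM.1 hN j
  exact ⟨hQ, e_add k hd hL (S := ShortComplex.mk j (cokernel.π j) (cokernel.condition j))
    { exact := ShortComplex.exact_of_g_is_cokernel _ (cokernelIsCokernel _) } hM hN hQ⟩

theorem h1_twist_coker {L : X.Modules} (hL : PicF.IsInvertible L) {M N : X.Modules} (hM : Coh.IsCoh M)
    (hN : Coh.IsCoh N) (j : M ⟶ N) [Mono j] (m : ℕ) (h : Subsingleton (Coh.HH X (ShStab.twist X L N m) 1)) :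
    Subsingleton (Coh.HH X (ShStab.twist X L (cokernel j) m) 1) := by
  haveI : IsNoetherian X := VB17.isNoetherian_of_over (k := k) (X := X)
  haveI := (VB17.curveLike (k := k) hd).separated
  let T := (ShortComplex.mk j (cokernel.π j) (cokernel.condition j)).map (M2.tensorR (CohB1.tensorPow L m))
  have hT : T.ShortExact := CurveCoh17.shortExact_tensorR
    { exact := ShortComplex.exact_of_g_is_cokernel _ (cokernelIsCokernel _) } (CohB1.tensorPow L m) fun x =>
      Module.Flat.of_linearEquiv (CurveCoh17.nonempty_stalk_equiv ((M2.isInvertible_iff_isFinLocFreeOfRank_one _).1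
        (Amp.isInvertible_tensorPow hL m)) x).some
  have hK : Coh.IsQCoh T.X₁ := (isCoh_twist (k := k) hd hL hM m).1
  haveI : Subsingleton (Coh.HH X T.X₁ (1 + 1)) := subsingleton_HH_of_dim hd.le _ hK 0
  have hsurj : Function.Surjective (hmap k T.g 1) := fun x =>
    (exact_hmap_hdelta k hT 1 x).1 (Subsingleton.elim _ _)
  exact @Function.Surjective.subsingleton _ _ _ h hsurj

variable [AlgebraicGeometry.IsReduced X] [Infinite k] (hpure : ∀ x : X, ¬ IsOpen ({x} : Set X))
  {L : X.Modules} (hL : CohB1.IsAmple L) (hva : RelAmple.IsRelVeryAmplePn (X ↘ Spec (CommRingCat.of k)) L)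

include hpure hL hva

/-- Uniform vanishing of `H¹` of large twists. -/
theorem exists_h1_vanish (K : ℚ) (αm Eb : ℕ) :
    ∃ N₀ : ℕ, ∀ F : X.Modules, Coh.IsCoh F → TorSh.IsTorsionFree F → |a k L F| ≤ αm → -(Eb : ℚ) ≤ e k F →
      (∀ (G : X.Modules) (j : G ⟶ F), Mono j → Coh.IsCoh G → ¬ IsZero G → e k G ≤ K) →
      ∀ m : ℕ, N₀ ≤ m → Subsingleton (Coh.HH X (ShStab.twist X L F m) 1) := by
  haveI : IsNoetherian X := VB17.isNoetherian_of_over (k := k) (X := X)
  obtain ⟨n, ι, hcl, hι, ⟨iO⟩⟩ := NefH1.exists_closedImmersion_of_pn k (X ↘ Spec (CommRingCat.of k)) hva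
  haveI := hcl
  let D := embData (k := k) ι
  have hA : CohB1.IsAmple (D.O 1) := NumPoly18.isAmple_pullback_twistProjSpace ι
  let i1 : D.O 1 ≅ L := iO
  have hc : ∀ {M : X.Modules}, Coh.IsCoh M → a k (D.O 1) M = ((1 : ℕ) : ℚ) * a k L M := fun {M} _ => by
    rw [a, a, CurveCoh17.euler_iso (M2.tensorIso (Iso.refl M) i1)]
    simp
  obtain ⟨N, hN⟩ := exists_nat_gt (K + (Module.finrank k (Coh.HH X (Coh.structureModule X) 1) : ℚ))
  refine ⟨N * αm + Eb + 1, fun F hF ht hα he hK m hm => ?_⟩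
  have hreg := isReg_of_bound (k := k) hd ι hpure hA hL 1 one_pos (fun hM => hc hM) hF ht K hK N hN
    (N * αm + Eb) (by
      have h7 : (N : ℚ) * a k L F ≤ (N : ℚ) * (αm : ℚ) :=
        mul_le_mul_of_nonneg_left ((le_abs_self _).trans hα) (Nat.cast_nonneg _)
      push_cast
      linarith)
  have hv : Subsingleton (Coh.HH X (D.tw F (m : ℤ)) 1) := hreg.van k le_rfl (by push_cast; omega)
  exact (hequiv k (M2.tensorIso (Iso.refl F) (M2.tensorPowIso i1.symm m ≪≫ D.powIso m) :
    ShStab.twist X L F m ≅ D.tw F m) 1).toEquiv.subsingleton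

/-- Sections of twisted submodules: either Euler characteristic, or very few. -/
theorem exists_dichotomy (K : ℚ) (αm jn : ℕ) :
    ∃ N₀ : ℕ, ∀ F : X.Modules, Coh.IsCoh F → TorSh.IsTorsionFree F → a k L F ≤ αm →
      (∀ (G : X.Modules) (j : G ⟶ F), Mono j → Coh.IsCoh G → ¬ IsZero G → e k G ≤ K) →
      ∀ m : ℕ, N₀ ≤ m → ∀ (P : X.Modules) (j : P ⟶ F), Mono j → Coh.IsCoh P →
        (Module.finrank k (Coh.HH X (ShStab.twist X L P m) 0) : ℚ) = e k P + m * a k L P ∨
        (Module.finrank k (Coh.HH X (ShStab.twist X L P m) 0) : ℚ) ≤ m * a k L P + (max K 0 - jn) := by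
  haveI : IsNoetherian X := VB17.isNoetherian_of_over (k := k) (X := X)
  obtain ⟨n, ι, hcl, hι, ⟨iO⟩⟩ := NefH1.exists_closedImmersion_of_pn k (X ↘ Spec (CommRingCat.of k)) hva
  haveI := hcl
  let D := embData (k := k) ι
  have hA : CohB1.IsAmple (D.O 1) := NumPoly18.isAmple_pullback_twistProjSpace ι
  let i1 : D.O 1 ≅ L := iO
  have haL : ∀ M : X.Modules, a k (D.O 1) M = a k L M := fun M => by
    rw [a, a, CurveCoh17.euler_iso (M2.tensorIso (Iso.refl M) i1)]
  have hfin : (genericPoints (X : Type u)).Finite :=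
    genericPoints.finite NoetherianSpace.finite_irreducibleComponents
  obtain ⟨s₀, hs₀⟩ := CMReg18.exists_section_avoid (k := k) (hfin.image ι.base)
  let e₀ : Coh.structureModule X ≅ (Scheme.Modules.pullback ι).obj (Coh.structureModule (CohB1.ProjSpace n k)) :=
    (Twist.pullbackUnitIso ι).symm
  let s : Coh.structureModule X ⟶ D.O 1 := e₀.hom ≫ (Scheme.Modules.pullback ι).map s₀
  have hgen : ∀ η ∈ genericPoints (X : Type u), η ∈ CohB1.genLocus (D.O 1) s := fun η hη => by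
    have h := hs₀ _ ⟨η, hη, rfl⟩
    show η ∈ CohB1.genLocus ((Scheme.Modules.pullback ι).obj ((CMReg18.projData k n).O 1)) s
    rw [Amp.genLocus_pullback ι ((CMReg18.projData k n).inv 1) s₀ e₀]
    exact h
  let h1O : ℕ := Module.finrank k (Coh.HH X (Coh.structureModule X) 1)
  let R : ℕ := jn + h1O + 1
  obtain ⟨N₀, hN₀⟩ := exists_h1_vanish (k := k) hd hpure hL hva K αm (R * αm)
  refine ⟨max N₀ jn, fun F hF ht hα hK m hm P j hj hP => ?_⟩
  haveI := hj
  have hm1 : N₀ ≤ m := (le_max_left _ _).trans hm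
  have hm2 : jn ≤ m := (le_max_right _ _).trans hm
  -- submodules of `F`
  have key : ∀ (W : X.Modules) (i : W ⟶ F), Mono i → Coh.IsCoh W → -((R : ℚ) * αm) ≤ e k W →
      (Module.finrank k (Coh.HH X (ShStab.twist X L W m) 0) : ℚ) = e k W + m * a k L W := fun W i hi hW hlow => by
    haveI := hi
    obtain ⟨hQ, -, hadd⟩ := vals_coker (k := k) hd hL.1 hW hF i
    have h1 := a_nonneg (k := k) hd hL hW
    have h2 := a_nonneg (k := k) hd hL hQ
    have hv := hN₀ W hW (TFOne27.isTorsionFree_of_mono i ht) (by rw [abs_of_nonneg h1]; linarith)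
      (by push_cast; linarith) (fun G g hg hG hG0 => by haveI := hg; exact hK G (g ≫ i) inferInstance hG hG0) m hm1
    rw [← euler_twist_eq (k := k) hd hL.1 hW m]
    exact_mod_cast h0_eq_euler (k := k) hd (isCoh_twist (k := k) hd hL.1 hW m) hv
  obtain ⟨G, g, hg, hG, hQ, hmax⟩ := exists_max (k := k) hd D hA hP (-(R : ℤ))
  haveI := hg
  obtain ⟨hcQ, heQ, haQ⟩ := vals_coker (k := k) hd hL.1 hG hP g
  obtain ⟨hcR, -, haR⟩ := vals_coker (k := k) hd hL.1 hP hF j
  have hGa := a_nonneg (k := k) hd hL hG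
  have hQa := a_nonneg (k := k) hd hL hcQ
  have hRa := a_nonneg (k := k) hd hL hcR
  have hR0 : (0 : ℚ) ≤ (R : ℚ) := Nat.cast_nonneg _
  -- the maximiser is above the threshold
  have hlowG : -((R : ℚ) * αm) ≤ e k G := by
    have h := hmax G g hg hG
    have h0 : (0 : ℚ) ≤ e k G - ((-(R : ℤ) : ℤ) : ℚ) * a k (D.O 1) G := by
      have hz := isZero_kernel_of_mono (𝟙 P)
      have h' := hmax _ (kernel.ι (𝟙 P)) inferInstance (DPerf.isCoh_of_isZero hz)
      obtain ⟨z1, z2⟩ := zero_vals k hd (D.inv 1) hz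
      rw [z1, z2] at h'
      linarith
    rw [haL] at h0
    push_cast at h0
    have : (R : ℚ) * a k L G ≤ (R : ℚ) * αm := mul_le_mul_of_nonneg_left (by linarith) hR0
    linarith
  by_cases hgen0 : ∀ η ∈ genericPoints (X : Type u), η ∉ CohB1.support (cokernel g)
  · refine Or.inl (key P j hj hP ?_)
    obtain ⟨S, hS⟩ := exists_suppIn_of_generic (k := k) hd hcQ hgen0
    obtain ⟨hv, -⟩ := vals_suppIn (k := k) hd hL.1 hcQ hS
    have : (0 : ℚ) ≤ e k (cokernel g) := by rw [hv]; exact Nat.cast_nonneg _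
    linarith
  · right
    push Not at hgen0
    obtain ⟨η, hη, hηs⟩ := hgen0
    have hq1 : (1 : ℚ) ≤ a k L (cokernel g) :=
      one_le_a (k := k) hd hL hcQ (dim_of_generic (k := k) hd hpure hcQ hη hηs)
    have hGh := key G (g ≫ j) inferInstance hG hlowG
    have hGK : e k G ≤ max K 0 := by
      by_cases hz : IsZero G
      · rw [(zero_vals k hd hL.1 hz).1]; exact le_max_right _ _
      · exact (hK G (g ≫ j) inferInstance hG hz).trans (le_max_left _ _)
    let pw : CohB1.tensorPow L m ≅ D.O (m : ℤ) := M2.tensorPowIso i1.symm m ≪≫ D.powIso m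
    have hb := h0_le (k := k) hd D hpure hA s hgen (J := -(jn : ℤ)) (r := -(R : ℤ))
      (by simp only [R, h1O]; push_cast; omega) hQ hcQ (m : ℤ)
    rw [max_eq_right (by omega), haL, ← LinearEquiv.finrank_eq (hequiv k
      (M2.tensorIso (Iso.refl (cokernel g)) pw : ShStab.twist X L (cokernel g) m ≅ D.tw (cokernel g) m) 0)] at hb
    push_cast at hb
    -- sections are subadditive
    let Sg := ShortComplex.mk g (cokernel.π g) (cokernel.condition g)
    have hS := D.shortExact_tw (S := Sg)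
      { exact := ShortComplex.exact_of_g_is_cokernel _ (cokernelIsCokernel _) } (m : ℤ)
    have hX : CurveLike k X := VB17.curveLike hd
    haveI : Module.Finite k (Coh.HH X (Sg.map (M2.tensorR (D.O (m : ℤ)))).X₁ 0) :=
      hX.fin _ (isCoh_tw (k := k) hd D hG (m : ℤ)) 0
    haveI : Module.Finite k (Coh.HH X (Sg.map (M2.tensorR (D.O (m : ℤ)))).X₂ 0) :=
      hX.fin _ (isCoh_tw (k := k) hd D hP (m : ℤ)) 0
    haveI : Module.Finite k (Coh.HH X (Sg.map (M2.tensorR (D.O (m : ℤ)))).X₃ 0) :=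
      hX.fin _ (isCoh_tw (k := k) hd D hcQ (m : ℤ)) 0
    have hex := finrank_eq_range_add_range _ _ (exact_hmap_hmap k hS 0)
    have hsub : Module.finrank k (Coh.HH X (D.tw P (m : ℤ)) 0) ≤
        Module.finrank k (Coh.HH X (D.tw G (m : ℤ)) 0) + Module.finrank k (Coh.HH X (D.tw (cokernel g) (m : ℤ)) 0) :=
      hex.le.trans (Nat.add_le_add (LinearMap.finrank_range_le _) (Submodule.finrank_le _))
    rw [← LinearEquiv.finrank_eq (hequiv k (M2.tensorIso (Iso.refl P) pw : ShStab.twist X L P m ≅ D.tw P m) 0),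
      ← LinearEquiv.finrank_eq (hequiv k (M2.tensorIso (Iso.refl G) pw : ShStab.twist X L G m ≅ D.tw G m) 0),
      ← LinearEquiv.finrank_eq (hequiv k
        (M2.tensorIso (Iso.refl (cokernel g)) pw : ShStab.twist X L (cokernel g) m ≅ D.tw (cokernel g) m) 0)] at hsub
    have hsub' : (Module.finrank k (Coh.HH X (ShStab.twist X L P m) 0) : ℚ) ≤
        (Module.finrank k (Coh.HH X (ShStab.twist X L G m) 0) : ℚ) +
          (Module.finrank k (Coh.HH X (ShStab.twist X L (cokernel g) m) 0) : ℚ) := by exact_mod_cast hsub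
    have hj1 : (jn : ℚ) * 1 ≤ (jn : ℚ) * a k L (cokernel g) := mul_le_mul_of_nonneg_left hq1 (Nat.cast_nonneg _)
    have hma : (m : ℚ) * a k L P = m * a k L G + m * a k L (cokernel g) := by rw [haQ, mul_add]
    have hb' : (Module.finrank k (Coh.HH X (ShStab.twist X L (cokernel g) m) 0) : ℚ) ≤
        ((m : ℚ) + -(jn : ℚ)) * a k L (cokernel g) := hb
    linarith

/-- The sectional inequality for semistable tensor fields, strict outside the regular pieces. -/
theorem exists_sectional {δ : ℚ} (hδ : 0 < δ) (α χ : ℤ) (A B : ℕ) (Dm : X.Modules) :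
    ∃ N₀ : ℕ, ∀ m : ℕ, N₀ ≤ m → ∀ (E : X.Modules), Coh.IsCoh E → TorSh.IsTorsionFree E →
      DecSh.mult k X L E = α → Curv2.euler k X E = χ → ∀ T : DecSh.TF E A B Dm, T.IsSemistable k L δ →
        Subsingleton (Coh.HH X (ShStab.twist X L E m) 1) ∧
        ∀ 𝓕 : DecSh.WFilt E, (∀ i, Coh.IsCoh ((𝓕.piece i : Subobject E) : X.Modules)) →
          (∑ i, 𝓕.wt i * ((α : ℚ) *
              (Module.finrank k (Coh.HH X (ShStab.twist X L ((𝓕.piece i : Subobject E) : X.Modules) m) 0) : ℚ) -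
            (DecSh.mult k X L ((𝓕.piece i : Subobject E) : X.Modules) : ℚ) *
              (Curv2.euler k X (ShStab.twist X L E m) : ℚ))) + δ * T.mu k L 𝓕 ≤ 0 ∧
          ((∑ i, 𝓕.wt i * ((α : ℚ) *
              (Module.finrank k (Coh.HH X (ShStab.twist X L ((𝓕.piece i : Subobject E) : X.Modules) m) 0) : ℚ) -
            (DecSh.mult k X L ((𝓕.piece i : Subobject E) : X.Modules) : ℚ) *
              (Curv2.euler k X (ShStab.twist X L E m) : ℚ))) + δ * T.mu k L 𝓕 = 0 →
            ∀ i, (Module.finrank k (Coh.HH X (ShStab.twist X L ((𝓕.piece i : Subobject E) : X.Modules) m) 0) : ℤ) =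
              Curv2.euler k X (ShStab.twist X L ((𝓕.piece i : Subobject E) : X.Modules) m)) := by
  classical
  haveI : IsNoetherian X := VB17.isNoetherian_of_over (k := k) (X := X)
  let K : ℚ := |(χ : ℚ)| + δ * A
  obtain ⟨jn, hjn⟩ := exists_nat_ge (max K 0 + |(χ : ℚ)| + δ * A + 2)
  obtain ⟨N₁, hN₁⟩ := exists_h1_vanish (k := k) hd hpure hL hva K α.natAbs χ.natAbs
  obtain ⟨N₂, hN₂⟩ := exists_dichotomy (k := k) hd hpure hL hva K α.natAbs jn
  refine ⟨max N₁ N₂, fun m hm E hE ht hα hχ T hT => ?_⟩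
  have hK : ∀ (G : X.Modules) (j : G ⟶ E), Mono j → Coh.IsCoh G → ¬ IsZero G → e k G ≤ K :=
    fun G j hj hG hG0 => Groth.Agent.S19314.bound_sub hd hpure hL hδ hE ht hα hχ T hT G j hj hG hG0
  have hαq : a k L E = (α : ℚ) := by rw [← mult_cast, hα]
  have hχq : e k E = (χ : ℚ) := by rw [e, hχ]
  have habsα : |(α : ℚ)| ≤ (α.natAbs : ℚ) := by
    rw [← Int.cast_natCast, Int.natCast_natAbs, Int.cast_abs]
  have hχlow : -(χ.natAbs : ℚ) ≤ (χ : ℚ) := by
    rw [← Int.cast_natCast, Int.natCast_natAbs, Int.cast_abs]; exact neg_abs_le _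
  refine ⟨hN₁ E hE ht (by rw [hαq]; exact habsα) (by rw [hχq]; exact hχlow) hK m ((le_max_left _ _).trans hm),
    fun 𝓕 h𝓕 => ?_⟩
  have hEm : (Curv2.euler k X (ShStab.twist X L E m) : ℚ) = (χ : ℚ) + m * α := by
    rw [euler_twist_eq (k := k) hd hL.1 hE m, hαq, hχq]
  let x : Fin 𝓕.t → ℚ := fun i => a k L ((𝓕.piece i : Subobject E) : X.Modules)
  let c : Fin 𝓕.t → ℚ := fun i => e k ((𝓕.piece i : Subobject E) : X.Modules)
  let h : Fin 𝓕.t → ℚ := fun i =>
    (Module.finrank k (Coh.HH X (ShStab.twist X L ((𝓕.piece i : Subobject E) : X.Modules) m) 0) : ℚ)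
  let q : Fin 𝓕.t → ℚ := fun i => (α : ℚ) * c i - x i * χ
  have hx : ∀ i, 0 ≤ x i ∧ x i ≤ (α : ℚ) := fun i => by
    obtain ⟨hQ, -, hadd⟩ := vals_coker (k := k) hd hL.1 (h𝓕 i) hE (𝓕.piece i).arrow
    have h1 := a_nonneg (k := k) hd hL (h𝓕 i)
    have h2 := a_nonneg (k := k) hd hL hQ
    rw [hαq] at hadd
    refine ⟨h1, ?_⟩
    show a k L _ ≤ _
    linarith
  have hα1 : (1 : ℚ) ≤ (α : ℚ) := by
    have hE0 : ¬ IsZero E := fun hz => 𝓕.piece_nonzero ⟨0, 𝓕.t_pos⟩ (IsZero.of_mono (𝓕.piece _).arrow hz)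
    rw [← hαq]
    exact one_le_a (k := k) hd hL hE (dim_of_tf (k := k) hd hpure hE ht hE (𝟙 E) hE0)
  have hd2 : ∀ i, h i = c i + m * x i ∨ h i ≤ m * x i + (max K 0 - jn) := fun i =>
    hN₂ E hE ht (by rw [hαq]; exact (le_abs_self _).trans habsα) hK m ((le_max_right _ _).trans hm) _
      (𝓕.piece i).arrow inferInstance (h𝓕 i)
  let bad : Fin 𝓕.t → Prop := fun i => h i ≠ c i + m * x i
  let S : ℚ := ∑ i, |q i|
  have hS : 0 ≤ S := Finset.sum_nonneg fun i _ => abs_nonneg _
  let ε : ℚ := 1 / (S + 1)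
  have hε : 0 < ε := div_pos one_pos (by linarith)
  have hε1 : ε ≤ 1 := by rw [div_le_one (by linarith)]; linarith
  have hεq : ∀ i, ε * |q i| ≤ 1 := fun i => by
    have h1 : |q i| ≤ S := Finset.single_le_sum (f := fun i => |q i|) (fun j _ => abs_nonneg _) (Finset.mem_univ i)
    have h2 : ε * (S + 1) = 1 := div_mul_cancel₀ _ (by linarith)
    nlinarith
  let 𝓕' : DecSh.WFilt E :=
    { 𝓕 with
      wt := fun i => if bad i then 𝓕.wt i * ε else 𝓕.wt i
      wt_pos := fun i => by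
        have := 𝓕.wt_pos i
        split_ifs
        · positivity
        · exact this }
  have hss := hT 𝓕' h𝓕
  obtain ⟨I, hIa, hI⟩ := 𝓕'.exists_gam_eq_mu (DecSh.mult k X L E)
    (fun Q => DecSh.mult k X L (Q : X.Modules)) T.nv
  rw [← hI] at hss
  have hmu : T.mu k L 𝓕 ≤ 𝓕.gam (DecSh.mult k X L E) (fun Q => DecSh.mult k X L (Q : X.Modules)) I :=
    𝓕.mu_le_gam (DecSh.mult k X L E) (fun Q => DecSh.mult k X L (Q : X.Modules)) T.nv hIa
  let g : Fin 𝓕.t → ℚ := fun i => (A : ℚ) * x i -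
    (𝓕.nu (DecSh.mult k X L E) (fun Q => DecSh.mult k X L (Q : X.Modules)) I i : ℚ) * α
  have hg : ∀ i, g i ≤ (A : ℚ) * α := fun i => by
    have h1 : (A : ℚ) * x i ≤ (A : ℚ) * α := mul_le_mul_of_nonneg_left (hx i).2 (Nat.cast_nonneg _)
    have h2 : (0 : ℚ) ≤ (𝓕.nu (DecSh.mult k X L E) (fun Q => DecSh.mult k X L (Q : X.Modules)) I i : ℚ) * α :=
      mul_nonneg (Nat.cast_nonneg _) (by linarith)
    show (A : ℚ) * x i - _ ≤ _
    linarith
  have hgam : 𝓕.gam (DecSh.mult k X L E) (fun Q => DecSh.mult k X L (Q : X.Modules)) I = ∑ i, 𝓕.wt i * g i := by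
    refine Finset.sum_congr rfl fun i _ => ?_
    simp only [g, x]
    rw [mult_cast, mult_cast, hαq]
  have hss' : ∑ i, 𝓕'.wt i * q i + δ * ∑ i, 𝓕'.wt i * g i ≤ 0 := by
    refine le_of_eq_of_le ?_ hss
    congr 1
    · refine Finset.sum_congr rfl fun i _ => ?_
      simp only [q, c, x]
      rw [mult_cast, mult_cast, hαq, hχ]
      rfl
    · congr 1
      refine Finset.sum_congr rfl fun i _ => ?_
      simp only [g, x]
      rw [mult_cast, mult_cast, hαq]
      rfl
  have hsum : ∑ i, 𝓕.wt i * ((α : ℚ) * h i - (DecSh.mult k X L ((𝓕.piece i : Subobject E) : X.Modules) : ℚ) *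
      (Curv2.euler k X (ShStab.twist X L E m) : ℚ)) = ∑ i, 𝓕.wt i * ((α : ℚ) * h i - x i * ((χ : ℚ) + m * α)) := by
    refine Finset.sum_congr rfl fun i _ => ?_
    rw [hEm, mult_cast]
  -- termwise comparison
  let F : Fin 𝓕.t → ℚ := fun i => 𝓕.wt i * ((α : ℚ) * h i - x i * ((χ : ℚ) + m * α)) + δ * (𝓕.wt i * g i)
  let F' : Fin 𝓕.t → ℚ := fun i => 𝓕'.wt i * q i + δ * (𝓕'.wt i * g i)
  have hF' : ∑ i, F' i ≤ 0 := by
    simp only [F', Finset.sum_add_distrib, ← Finset.mul_sum]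
    exact hss'
  have hterm : ∀ i, (bad i → F i < F' i) ∧ F i ≤ F' i := fun i => by
    by_cases hb : bad i
    · have hw' : 𝓕'.wt i = 𝓕.wt i * ε := if_pos hb
      have hlt : F i < F' i := by
        have hbd : h i ≤ m * x i + (max K 0 - jn) := (hd2 i).resolve_left hb
        have h1 : (α : ℚ) * h i ≤ (α : ℚ) * (m * x i + (max K 0 - jn)) :=
          mul_le_mul_of_nonneg_left hbd (by linarith)
        have h2 : (α : ℚ) * (max K 0 + |(χ : ℚ)| + δ * A + 2) ≤ (α : ℚ) * jn :=
          mul_le_mul_of_nonneg_left hjn (by linarith)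
        have h3 : -((α : ℚ) * |(χ : ℚ)|) ≤ x i * χ := by
          have h31 : x i * (-|(χ : ℚ)|) ≤ x i * χ := mul_le_mul_of_nonneg_left (neg_abs_le _) (hx i).1
          have h32 : x i * |(χ : ℚ)| ≤ (α : ℚ) * |(χ : ℚ)| := mul_le_mul_of_nonneg_right (hx i).2 (abs_nonneg _)
          linarith
        have h4 : -1 ≤ ε * q i := by
          have h41 : ε * (-|q i|) ≤ ε * q i := mul_le_mul_of_nonneg_left (neg_abs_le _) hε.le
          linarith [hεq i]
        have h5 : (1 - ε) * (δ * g i) ≤ δ * ((A : ℚ) * α) := by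
          have h51 : (1 - ε) * (δ * g i) ≤ (1 - ε) * (δ * ((A : ℚ) * α)) :=
            mul_le_mul_of_nonneg_left (mul_le_mul_of_nonneg_left (hg i) hδ.le) (by linarith)
          have h52 : 0 ≤ ε * (δ * ((A : ℚ) * α)) :=
            mul_nonneg hε.le (mul_nonneg hδ.le (mul_nonneg (Nat.cast_nonneg _) (by linarith)))
          linarith
        have hneg : (α : ℚ) * h i - x i * ((χ : ℚ) + m * α) + δ * g i - ε * (q i + δ * g i) < 0 := by linarith
        have hmul := mul_neg_of_pos_of_neg (𝓕.wt_pos i) hneg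
        simp only [F, F', hw']
        linarith
      exact ⟨fun _ => hlt, hlt.le⟩
    · have hw' : 𝓕'.wt i = 𝓕.wt i := if_neg hb
      refine ⟨fun hb' => absurd hb' hb, le_of_eq ?_⟩
      have he : h i = c i + m * x i := not_not.1 hb
      simp only [F, F', hw', q, he]
      ring
  have hle : ∑ i, 𝓕.wt i * ((α : ℚ) * h i - x i * ((χ : ℚ) + m * α)) + δ * T.mu k L 𝓕 ≤ ∑ i, F i := by
    simp only [F, Finset.sum_add_distrib, ← Finset.mul_sum]
    rw [← hgam]
    linarith [mul_le_mul_of_nonneg_left hmu hδ.le]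
  refine ⟨?_, fun h0 i => ?_⟩
  · rw [hsum]
    exact (hle.trans (Finset.sum_le_sum fun i _ => (hterm i).2)).trans hF'
  · by_contra hne
    have hb : bad i := fun hb => hne (by
      simp only [h, c, x] at hb
      rw [← euler_twist_eq (k := k) hd hL.1 (h𝓕 i) m] at hb
      exact_mod_cast hb)
    have hlt : ∑ i, F i < ∑ i, F' i :=
      Finset.sum_lt_sum (fun i _ => (hterm i).2) ⟨i, Finset.mem_univ _, (hterm i).1 hb⟩
    rw [hsum] at h0
    linarith

end Groth.Agent.Comp17
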