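import Groth.Agent.Lib.ShStab28.Positive
import Groth.Agent.Lib.AmpleFin18.PushEuler
import Groth.Agent.Lib.Cyc26.PushFin
import Groth.Agent.Lib.CurveCoh17.Bases
import Groth.Agent.Lib.CurveCoh17.Vanish
import Groth.Agent.Lib.VB17.Ext

/-!
# Splitting coherent modules along clopen pieces
-/

set_option autoImplicit false
set_option linter.style.haveILetI false
set_option backward.isDefEq.respectTransparency false
set_option backward.isDefEq.respectTransparency.types false
set_option maxHeartbeats 1000000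

universe u

open CategoryTheory CategoryTheory.Limits AlgebraicGeometry TopologicalSpace

noncomputable section

namespace Groth.Agent.Comp17

open Groth.Agent Groth.Agent.M1 Groth.Agent.CurveCoh17

variable {X : Scheme.{u}}

/-- The piece of a module on an open subscheme, extended. -/
abbrev piece (U : X.Opens) (M : X.Modules) : X.Modules :=
  (Scheme.Modules.pushforward U.ι).obj (M.restrict U.ι)

/-- The restriction to a piece. -/
abbrev θ (U : X.Opens) (M : X.Modules) : M ⟶ piece U M :=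
  (Scheme.Modules.restrictAdjunction U.ι).unit.app M

/-- The map on pieces. -/
abbrev pieceMap (U : X.Opens) {M N : X.Modules} (φ : M ⟶ N) : piece U M ⟶ piece U N :=
  (Scheme.Modules.restrictFunctor U.ι ⋙ Scheme.Modules.pushforward U.ι).map φ

theorem θ_natural (U : X.Opens) {M N : X.Modules} (φ : M ⟶ N) : θ U M ≫ pieceMap U φ = φ ≫ θ U N :=
  ((Scheme.Modules.restrictAdjunction U.ι).unit.naturality φ).symm

theorem bijective_stalk_of_app {M N : X.Modules} (φ : M ⟶ N) (U : X.Opens)
    (h : ∀ W : X.Opens, W ≤ U → Function.Bijective (φ.app W)) {x : X} (hx : x ∈ U) :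
    Function.Bijective (stalkLin φ x) := by
  refine ⟨(injective_iff_map_eq_zero _).2 fun a ha => ?_, fun b => ?_⟩
  · obtain ⟨W, hW, s, rfl⟩ := M.presheaf.exists_germ_eq a
    rw [stalkLin_apply, M1.germ_naturality] at ha
    obtain ⟨W', hW', i, i', he⟩ := N.presheaf.germ_eq x hW hW (φ.app W s) 0 (ha.trans (map_zero _).symm)
    have h0 : φ.app (W' ⊓ U) (M1.mres M (inf_le_left.trans i.le) s) = 0 := by
      rw [M1.app_mres, ← M1.mres_mres N i.le inf_le_left]
      show M1.mres N inf_le_left (N.presheaf.map i.op (φ.app W s)) = 0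
      rw [he, map_zero, map_zero]
    rw [← M1.germ_mres M (inf_le_left.trans i.le : W' ⊓ U ≤ W) (x := x) ⟨hW', hx⟩ s,
      (h _ inf_le_right).1 (h0.trans (map_zero _).symm), map_zero]
  · obtain ⟨W, hW, t, rfl⟩ := N.presheaf.exists_germ_eq b
    obtain ⟨s, hs⟩ := (h (W ⊓ U) inf_le_right).2 (M1.mres N inf_le_left t)
    refine ⟨M.presheaf.germ (W ⊓ U) x ⟨hW, hx⟩ s, ?_⟩
    rw [stalkLin_apply, M1.germ_naturality, hs]
    exact M1.germ_mres N _ _ t

theorem bijective_θ (U : X.Opens) (M : X.Modules) {x : X} (hx : x ∈ U) :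
    Function.Bijective (stalkLin (θ U M) x) :=
  bijective_stalk_of_app _ U ((Twist.isIso_restrict_map_iff _ U).1 (isIso_restrict_unit U.ι M)) hx

theorem subsingleton_piece (U : X.Opens) (hU : IsClosed (U : Set X)) (M : X.Modules) {x : X} (hx : x ∉ U) :
    Subsingleton ((piece U M).presheaf.stalk x : Type u) := by
  refine subsingleton_of_forall_eq 0 fun a => ?_
  obtain ⟨W, hW, s, rfl⟩ := (piece U M).presheaf.exists_germ_eq a
  let W' : X.Opens := W ⊓ ⟨(U : Set X)ᶜ, hU.isOpen_compl⟩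
  have hW' : x ∈ W' := ⟨hW, hx⟩
  rw [← M1.germ_mres (piece U M) (inf_le_left : W' ≤ W) hW' s]
  have he : U.ι ''ᵁ (U.ι ⁻¹ᵁ W') = ⊥ := by
    rw [Scheme.Hom.image_preimage_eq_opensRange_inf, Scheme.Opens.opensRange_ι]
    refine Opens.ext (Set.eq_empty_of_forall_notMem ?_)
    rintro y ⟨hyU, -, hy⟩
    exact hy hyU
  have hsub : Subsingleton Γ(M, (U.ι ''ᵁ (U.ι ⁻¹ᵁ W'))) := by
    rw [he]
    exact ⟨fun a b => M1.section_ext _ _ fun y hy => hy.elim⟩
  rw [show M1.mres (piece U M) (inf_le_left : W' ≤ W) s = 0 from hsub.elim _ _, map_zero]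

theorem eq_zero_off (U : X.Opens) (hU : IsClosed (U : Set X)) (M : X.Modules) {x : X} (hx : x ∉ U)
    (a : (piece U M).presheaf.stalk x) : a = 0 :=
  (subsingleton_piece U hU M hx).elim _ _

theorem injective_pieceMap (U : X.Opens) (hU : IsClosed (U : Set X)) {M N : X.Modules} (φ : M ⟶ N) [Mono φ] :
    Mono (pieceMap U φ) := by
  refine (M1.mono_iff_stalk _).2 fun x => ?_
  show Function.Injective (stalkLin (pieceMap U φ) x)
  by_cases hx : x ∈ U
  · intro a b h
    obtain ⟨a, rfl⟩ := (bijective_θ U M hx).2 a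
    obtain ⟨b, rfl⟩ := (bijective_θ U M hx).2 b
    rw [← stalkLin_comp, ← stalkLin_comp, θ_natural, stalkLin_comp, stalkLin_comp] at h
    exact congrArg _ ((M1.mono_iff_stalk φ).1 inferInstance x ((bijective_θ U N hx).1 h))
  · intro a b _
    exact (subsingleton_piece U hU M hx).elim _ _

theorem isIso_of_bijective_or {A B : X.Modules} (w : A ⟶ B)
    (h : ∀ x, Function.Bijective (stalkLin w x) ∨
      (Subsingleton (A.presheaf.stalk x : Type u) ∧ Subsingleton (B.presheaf.stalk x : Type u))) : IsIso w := by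
  refine (M1.isIso_iff_stalk w).2 fun x => ?_
  rcases h x with h | ⟨ha, hb⟩
  · exact h
  · exact ⟨fun a b _ => ha.elim _ _, fun b => ⟨0, hb.elim _ _⟩⟩

theorem isCoh_piece (U : X.Opens) (hU : IsClosed (U : Set X)) [IsLocallyNoetherian X] {M : X.Modules}
    (hM : Coh.IsCoh M) : Coh.IsCoh (piece U M) := by
  haveI : IsClosedImmersion U.ι := IsClosedImmersion.of_isPreimmersion _ (by
    rw [Scheme.Opens.range_ι]; exact hU)
  exact Cyc26.isCoh_push_finite U.ι (DPerf.isCoh_restrict hM U.ι)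

/-- A piece inside the module, with the complementary piece as quotient. -/
theorem exists_split [IsLocallyNoetherian X] (U V : X.Opens) (hU : IsClosed (U : Set X)) (hV : IsClosed (V : Set X))
    (hcov : ∀ x, x ∈ U ∨ x ∈ V) (hdis : ∀ x, x ∈ U → x ∉ V) (M : X.Modules) :
    ∃ (j : piece V M ⟶ M) (h : j ≫ θ U M = 0), Mono j ∧ (ShortComplex.mk j (θ U M) h).ShortExact := by
  have hepi : Epi (θ U M) := (M1.epi_iff_stalk _).2 fun x b => by
    by_cases hx : x ∈ U
    · exact (bijective_θ U M hx).2 b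
    · exact ⟨0, (map_zero _).trans (eq_zero_off U hU M hx b).symm⟩
  let K := kernel (θ U M)
  let w : K ⟶ piece V M := kernel.ι (θ U M) ≫ θ V M
  have hK : ∀ x ∈ U, ∀ a : K.presheaf.stalk x, a = 0 := fun x hx a => by
    refine (M1.mono_iff_stalk (kernel.ι (θ U M))).1 inferInstance x ?_
    refine (bijective_θ U M hx).1 ?_
    show stalkLin (θ U M) x (stalkLin (kernel.ι (θ U M)) x a) = stalkLin (θ U M) x (stalkLin (kernel.ι (θ U M)) x 0)
    rw [← stalkLin_comp, kernel.condition, map_zero, map_zero]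
    exact M1.stalkAb_map_zero _ _
  haveI : IsIso w := by
    refine isIso_of_bijective_or w fun x => ?_
    rcases hcov x with hx | hx
    · exact Or.inr ⟨subsingleton_of_forall_eq 0 (hK x hx), subsingleton_piece V hV M (hdis x hx)⟩
    · refine Or.inl ⟨fun a b h => ?_, fun b => ?_⟩
      · refine (M1.mono_iff_stalk (kernel.ι (θ U M))).1 inferInstance x ((bijective_θ V M hx).1 ?_)
        show stalkLin (θ V M) x (stalkLin (kernel.ι (θ U M)) x a) = stalkLin (θ V M) x (stalkLin (kernel.ι (θ U M)) x b)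
        rw [← stalkLin_comp, ← stalkLin_comp]
        exact h
      · obtain ⟨m, hm⟩ := (bijective_θ V M hx).2 b
        have hxU : x ∉ U := fun h => hdis x h hx
        obtain ⟨a, ha⟩ := (M1.exact_iff_stalk_eq_zero (ShortComplex.mk _ _ (kernel.condition (θ U M)))).1
          (ShortComplex.exact_kernel (θ U M)) x m (eq_zero_off U hU M hxU _)
        refine ⟨a, ?_⟩
        rw [stalkLin_comp]
        exact (congrArg (stalkLin (θ V M) x) ha).trans hm
  have h : (inv w ≫ kernel.ι (θ U M)) ≫ θ U M = 0 := by rw [Category.assoc, kernel.condition, comp_zero]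
  refine ⟨inv w ≫ kernel.ι (θ U M), h, inferInstance, ?_⟩
  haveI := hepi
  refine { exact := ?_ }
  exact ShortComplex.exact_of_iso (ShortComplex.isoMk (S₁ := ShortComplex.mk _ _ (kernel.condition (θ U M)))
    (asIso w) (Iso.refl _) (Iso.refl _) (by simp) (by simp)) (ShortComplex.exact_kernel (θ U M))

theorem nonempty_piece_top (M : X.Modules) : Nonempty (M ≅ piece ⊤ M) := by
  haveI : IsIso (θ ⊤ M) := isIso_of_bijective_or _ fun x => Or.inl (bijective_θ ⊤ M trivial)
  exact ⟨asIso (θ ⊤ M)⟩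

/-- A module supported in a smaller piece. -/
theorem nonempty_piece_iso {U V : X.Opens} (hU : IsClosed (U : Set X)) (hV : IsClosed (V : Set X)) (hVU : V ≤ U)
    (M : X.Modules) (h : ∀ x ∈ U, x ∉ V → Subsingleton (M.presheaf.stalk x : Type u)) :
    Nonempty (piece U M ≅ piece V M) := by
  haveI : IsIso (θ V (piece U M)) := isIso_of_bijective_or _ fun x => by
    by_cases hx : x ∈ V
    · exact Or.inl (bijective_θ V _ hx)
    · refine Or.inr ⟨?_, subsingleton_piece V hV _ hx⟩
      by_cases hxU : x ∈ U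
      · haveI := h x hxU hx
        exact (bijective_θ U M hxU).2.subsingleton
      · exact subsingleton_piece U hU M hxU
  haveI : IsIso (pieceMap V (θ U M)) := isIso_of_bijective_or _ fun x => by
    by_cases hx : x ∈ V
    · refine Or.inl ?_
      have h1 : Function.Bijective (stalkLin (θ V M ≫ pieceMap V (θ U M)) x) := by
        rw [θ_natural]
        have : ⇑(stalkLin (θ U M ≫ θ V (piece U M)) x) = stalkLin (θ V (piece U M)) x ∘ stalkLin (θ U M) x :=
          funext fun a => stalkLin_comp _ _ x a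
        rw [this]
        exact (bijective_θ V _ hx).comp (bijective_θ U M (hVU hx))
      have h2 : ⇑(stalkLin (θ V M ≫ pieceMap V (θ U M)) x) = stalkLin (pieceMap V (θ U M)) x ∘ stalkLin (θ V M) x :=
        funext fun a => stalkLin_comp _ _ x a
      rw [h2] at h1
      exact (Function.Bijective.of_comp_iff _ (bijective_θ V M hx)).1 h1
    · exact Or.inr ⟨subsingleton_piece V hV _ hx, subsingleton_piece V hV _ hx⟩
  exact ⟨asIso (θ V (piece U M)) ≪≫ (asIso (pieceMap V (θ U M))).symm⟩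

/-- Induction on closed open subsets. -/
theorem clopen_induction [NoetherianSpace X] {P : X.Opens → Prop}
    (h0 : ∀ W : X.Opens, IsClosed (W : Set X) → (W : Set X) = ∅ → P W)
    (hc : ∀ W : X.Opens, IsClosed (W : Set X) → _root_.IsConnected (W : Set X) → P W)
    (hu : ∀ W W₁ W₂ : X.Opens, IsClosed (W : Set X) → IsClosed (W₁ : Set X) → IsClosed (W₂ : Set X) →
      (W : Set X) = (W₁ : Set X) ∪ (W₂ : Set X) → Disjoint (W₁ : Set X) (W₂ : Set X) → P W₁ → P W₂ → P W)
    (W : X.Opens) (hW : IsClosed (W : Set X)) : P W := by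
  suffices H : ∀ C : Closeds X, ∀ W : X.Opens, (W : Set X) = (C : Set X) → P W from H ⟨W, hW⟩ W rfl
  intro C
  induction C using WellFoundedLT.induction with
  | ind C ih =>
    intro W hWC
    have hW : IsClosed (W : Set X) := hWC ▸ C.isClosed'
    by_cases he : (W : Set X) = ∅
    · exact h0 W hW he
    by_cases hp : _root_.IsPreconnected (W : Set X)
    · exact hc W hW ⟨Set.nonempty_iff_ne_empty.2 he, hp⟩
    rw [isPreconnected_closed_iff] at hp
    push Not at hp
    obtain ⟨t, t', ht, ht', hsub, h1, h2, h3⟩ := hp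
    have hd : Disjoint ((W : Set X) ∩ t) ((W : Set X) ∩ t') := by
      rw [Set.disjoint_left]
      rintro y ⟨hy, hy1⟩ ⟨-, hy2⟩
      exact (Set.eq_empty_iff_forall_notMem.1 h3) y ⟨hy, hy1, hy2⟩
    have heq : (W : Set X) = ((W : Set X) ∩ t) ∪ ((W : Set X) ∩ t') := by
      rw [← Set.inter_union_distrib_left]
      exact (Set.inter_eq_left.2 hsub).symm
    have ho1 : (W : Set X) ∩ t = (W : Set X) ∩ t'ᶜ := by
      ext y
      exact ⟨fun ⟨a, b⟩ => ⟨a, fun c => Set.disjoint_left.1 hd ⟨a, b⟩ ⟨a, c⟩⟩,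
        fun ⟨a, b⟩ => ⟨a, (hsub a).resolve_right b⟩⟩
    have ho2 : (W : Set X) ∩ t' = (W : Set X) ∩ tᶜ := by
      ext y
      exact ⟨fun ⟨a, b⟩ => ⟨a, fun c => Set.disjoint_left.1 hd ⟨a, c⟩ ⟨a, b⟩⟩,
        fun ⟨a, b⟩ => ⟨a, (hsub a).resolve_left b⟩⟩
    let W₁ : X.Opens := ⟨(W : Set X) ∩ t, ho1 ▸ W.isOpen.inter ht'.isOpen_compl⟩
    let W₂ : X.Opens := ⟨(W : Set X) ∩ t', ho2 ▸ W.isOpen.inter ht.isOpen_compl⟩
    let C₁ : Closeds X := ⟨(W : Set X) ∩ t, hW.inter ht⟩
    let C₂ : Closeds X := ⟨(W : Set X) ∩ t', hW.inter ht'⟩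
    have hlt1 : C₁ < C := by
      refine lt_of_le_of_ne (fun y hy => show y ∈ (C : Set X) from hWC ▸ hy.1) fun e => ?_
      obtain ⟨y, hy⟩ := h2
      have : y ∈ (C₁ : Set X) := e ▸ hWC ▸ hy.1
      exact Set.disjoint_left.1 hd this hy
    have hlt2 : C₂ < C := by
      refine lt_of_le_of_ne (fun y hy => show y ∈ (C : Set X) from hWC ▸ hy.1) fun e => ?_
      obtain ⟨y, hy⟩ := h1
      have : y ∈ (C₂ : Set X) := e ▸ hWC ▸ hy.1
      exact Set.disjoint_left.1 hd hy this
    exact hu W W₁ W₂ hW (hW.inter ht) (hW.inter ht') heq hd (ih C₁ hlt1 W₁ rfl) (ih C₂ hlt2 W₂ rfl)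

end Groth.Agent.Comp17
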