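import Groth.Agent.Lib.Comp17.TFBound
import Groth.Agent.Lib.CurveCoh17.Euler

/-!
# A bound on submodules from a lower bound on sections of quotients
-/

set_option autoImplicit false
set_option linter.style.haveILetI false
set_option backward.isDefEq.respectTransparency false
set_option backward.isDefEq.respectTransparency.types false
set_option maxHeartbeats 1000000

universe u

open CategoryTheory CategoryTheory.Limits AlgebraicGeometry TopologicalSpace

noncomputable section

namespace Groth.Agent.Comp17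

open Groth.Agent Groth.Agent.M1 Groth.Agent.M2 Groth.Agent.CurveCoh17

variable {k : Type u} [Field k] {X : Scheme.{u}} [X.Over (Spec (CommRingCat.of k))]
  [IsProper (X ↘ Spec (CommRingCat.of k))] (hd : topologicalKrullDim X = 1)

include k hd

theorem isCoh_kernel {M N : X.Modules} (hM : Coh.IsCoh M) (hN : Coh.IsQCoh N) (f : M ⟶ N) :
    Coh.IsCoh (kernel f) := by
  haveI : IsNoetherian X := VB17.isNoetherian_of_over (k := k) (X := X)
  exact isCoh_of_mono (kernel.ι f) hM (M1.isQCoh_kernel hM.1 hN f)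

theorem isCoh_img {M N : X.Modules} (hM : Coh.IsCoh M) (hN : Coh.IsCoh N) (f : M ⟶ N) :
    Coh.IsCoh (Abelian.image f) := by
  haveI : IsNoetherian X := VB17.isNoetherian_of_over (k := k) (X := X)
  exact isCoh_of_mono (Abelian.image.ι f) hN (M1.isQCoh_kernel hN.1 (M1.isCoh_cokernel hM.1 hN f).1 _)

theorem e_h0_h1 {M : X.Modules} (hM : Coh.IsCoh M) : e k M =
    (Module.finrank k (Coh.HH X M 0) : ℚ) - (Module.finrank k (Coh.HH X M 1) : ℚ) := by
  rw [e, ((VB17.curveLike (k := k) hd).adm hM).euler_eq]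
  push_cast
  rfl

/-- A generic point in the support makes it one-dimensional. -/
theorem dim_of_generic (hpure : ∀ x : X, ¬ IsOpen ({x} : Set X)) {G : X.Modules} (hG : Coh.IsCoh G) {η : X}
    (hη : η ∈ genericPoints (X : Type u)) (hηs : η ∈ CohB1.support G) :
    topologicalKrullDim (CohB1.support G) = ((1 : ℕ) : WithBot ℕ∞) := by
  haveI : IsNoetherian X := VB17.isNoetherian_of_over (k := k) (X := X)
  have hcl : IsClosed (CohB1.support G) := by
    rw [← M1.support_annSheaf hG.1 hG.2]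
    exact (M1.annSheaf hG.1 hG.2).support.isClosed
  have hmem : ∀ y ∈ closure ({η} : Set X), y ∈ CohB1.support G := fun y hy =>
    hcl.closure_subset_iff.2 (Set.singleton_subset_iff.2 hηs) hy
  obtain ⟨y, hy, hne'⟩ : ∃ y ∈ closure ({η} : Set X), y ≠ η := by
    by_contra hn
    push Not at hn
    have hC : closure ({η} : Set X) ∈ irreducibleComponents (X : Type u) := hη
    have heq : closure ({η} : Set X) = {η} :=
      Set.eq_singleton_iff_unique_mem.2 ⟨subset_closure rfl, hn⟩
    refine hpure η ?_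
    have hfin : ((irreducibleComponents (X : Type u)) \ {closure ({η} : Set X)}).Finite :=
      NoetherianSpace.finite_irreducibleComponents.sdiff
    have hopen : IsOpen (⋃ C ∈ (irreducibleComponents (X : Type u)) \ {closure ({η} : Set X)}, C)ᶜ :=
      (hfin.isClosed_biUnion fun C hC' => isClosed_of_mem_irreducibleComponents C hC'.1).isOpen_compl
    have : ({η} : Set X) = (⋃ C ∈ (irreducibleComponents (X : Type u)) \ {closure ({η} : Set X)}, C)ᶜ := by
      ext z
      constructor
      · rintro rfl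
        intro hz
        obtain ⟨C, ⟨hC1, hC2⟩, hzC⟩ := Set.mem_iUnion₂.1 hz
        have hsub : closure ({z} : Set X) ⊆ C :=
          (isClosed_of_mem_irreducibleComponents C hC1).closure_subset_iff.2 (Set.singleton_subset_iff.2 hzC)
        exact hC2 (Set.Subset.antisymm (hC.2 hC1.1 hsub) hsub)
      · intro hz
        have hzc : irreducibleComponent z = closure ({η} : Set X) := by
          by_contra hne2
          exact hz (Set.mem_iUnion₂.2 ⟨_, ⟨irreducibleComponent_mem_irreducibleComponents z, hne2⟩,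
            mem_irreducibleComponent⟩)
        rw [heq] at hzc
        have hz' : z ∈ irreducibleComponent z := mem_irreducibleComponent
        rw [hzc] at hz'
        exact hz'
    rw [this]
    exact hopen
  refine le_antisymm (dim_le hd G) ?_
  have hlts : (⟨closure {(⟨y, hmem y hy⟩ : CohB1.support G)}, isIrreducible_singleton.closure, isClosed_closure⟩ :
        IrreducibleCloseds (CohB1.support G)) <
      ⟨closure {(⟨η, hηs⟩ : CohB1.support G)}, isIrreducible_singleton.closure, isClosed_closure⟩ := by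
    have hmy : (⟨y, hmem y hy⟩ : CohB1.support G) ∈ closure {(⟨η, hηs⟩ : CohB1.support G)} := by
      rw [Topology.IsInducing.subtypeVal.closure_eq_preimage_closure_image, Set.mem_preimage, Set.image_singleton]
      exact hy
    refine lt_of_le_of_ne ?_ fun h => ?_
    · show closure {(⟨y, hmem y hy⟩ : CohB1.support G)} ⊆ closure {(⟨η, hηs⟩ : CohB1.support G)}
      exact closure_minimal (Set.singleton_subset_iff.2 hmy) isClosed_closure
    · have h' : closure {(⟨y, hmem y hy⟩ : CohB1.support G)} = closure {(⟨η, hηs⟩ : CohB1.support G)} :=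
        congrArg IrreducibleCloseds.carrier h
      have hηy : (⟨η, hηs⟩ : CohB1.support G) ∈ closure {(⟨y, hmem y hy⟩ : CohB1.support G)} := h' ▸ subset_closure rfl
      rw [Topology.IsInducing.subtypeVal.closure_eq_preimage_closure_image, Set.mem_preimage, Set.image_singleton] at hηy
      exact hne' ((specializes_iff_mem_closure.2 hy).antisymm (specializes_iff_mem_closure.2 hηy)).eq.symm
  have hpos : (0 : WithBot ℕ∞) < Order.krullDim (IrreducibleCloseds (CohB1.support G)) :=
    Order.krullDim_pos_iff.2 ⟨_, _, hlts⟩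
  show ((1 : ℕ) : WithBot ℕ∞) ≤ Order.krullDim (IrreducibleCloseds (CohB1.support G))
  rw [Nat.cast_one]
  revert hpos
  generalize Order.krullDim (IrreducibleCloseds (CohB1.support G)) = t
  intro h
  induction t using WithBot.recBotCoe with
  | bot => exact absurd h (by simp)
  | coe n => exact WithBot.one_le_coe.2 (Order.one_le_iff_pos.2 (WithBot.coe_pos.1 h))

/-- Vanishing at the generic points gives finite support. -/
theorem exists_suppIn_of_generic {G : X.Modules} (hG : Coh.IsCoh G)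
    (h : ∀ η ∈ genericPoints (X : Type u), η ∉ CohB1.support G) : ∃ S : Finset X, SuppIn G S := by
  haveI : IsNoetherian X := VB17.isNoetherian_of_over (k := k) (X := X)
  exact exists_suppIn_of_maximal hd.le hG fun g hg b => by
    haveI := TFOne27.subsingleton_of_not_mem_support (h g (TFOne27.mem_genericPoints.2 hg))
    exact Subsingleton.elim _ _

/-- Modules of finite support. -/
theorem vals_suppIn {L : X.Modules} (hL : PicF.IsInvertible L) {M : X.Modules} (hM : Coh.IsCoh M) {S : Finset X}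
    (h : SuppIn M S) : e k M = (Module.finrank k (Coh.HH X M 0) : ℚ) ∧ a k L M = 0 := by
  haveI : IsNoetherian X := VB17.isNoetherian_of_over (k := k) (X := X)
  have hf := (VB17.curveLike (k := k) hd).fin M hM 0
  have hL1 := fun x => CurveCoh17.nonempty_stalk_equiv ((isInvertible_iff_isFinLocFreeOfRank_one L).1 hL) x
  refine ⟨?_, ?_⟩
  · rw [e, h.euler_eq hf]
    push_cast
    rfl
  · rw [a, (h.tensor L).euler_eq (h.finite_tensor hf L hL1), h.euler_eq hf, h.finrank_tensor hf L hL1]
    push_cast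
    ring

variable (D : CMReg18.TwistData X)

theorem a_tw {M : X.Modules} (hM : Coh.IsCoh M) (d : ℤ) : a k (D.O 1) (D.tw M d) = a k (D.O 1) M := by
  have hc : ∀ {M : X.Modules}, Coh.IsCoh M → a k (D.O 1) M = ((1 : ℕ) : ℚ) * a k (D.O 1) M := fun {M} _ => by simp
  have hMd := isCoh_tw (k := k) hd D hM d
  have h1 := e_tw (k := k) hd D (D.inv 1) 1 hc hMd 1
  rw [e_iso k (D.twTwist M d 1)] at h1
  rw [e_tw (k := k) hd D (D.inv 1) 1 hc hM (d + 1), e_tw (k := k) hd D (D.inv 1) 1 hc hM d] at h1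
  push_cast at h1
  linarith

/-- The quotient condition. -/
def SubsLE (Q : X.Modules) (r : ℤ) : Prop :=
  ∀ (W : X.Modules) (j : W ⟶ Q), Mono j → Coh.IsCoh W → e k W ≤ (r : ℚ) * a k (D.O 1) W

variable (hpure : ∀ x : X, ¬ IsOpen ({x} : Set X)) (hA : CohB1.IsAmple (D.O 1))

/-- A submodule of a twist goes back. -/
theorem sub_tw {Q : X.Modules} {r : ℤ} (hQ : SubsLE (k := k) D Q r) {W : X.Modules} (hW : Coh.IsCoh W) (t : ℤ)
    (j : W ⟶ D.tw Q t) [Mono j] : e k W - t * a k (D.O 1) W ≤ (r : ℚ) * a k (D.O 1) W := by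
  haveI : IsNoetherian X := VB17.isNoetherian_of_over (k := k) (X := X)
  have hS := D.shortExact_tw (S := ShortComplex.mk j (cokernel.π j) (cokernel.condition j))
    { exact := ShortComplex.exact_of_g_is_cokernel _ (cokernelIsCokernel _) } (-t)
  haveI : Mono ((M2.tensorR (D.O (-t))).map j) := hS.mono_f
  let i : D.tw W (-t) ⟶ Q := (M2.tensorR (D.O (-t))).map j ≫
    (D.twTwist Q t (-t) ≪≫ D.twIso Q (by simp) ≪≫ D.twZero Q).hom
  have h := hQ _ i inferInstance (isCoh_tw (k := k) hd D hW (-t))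
  have hc : ∀ {M : X.Modules}, Coh.IsCoh M → a k (D.O 1) M = ((1 : ℕ) : ℚ) * a k (D.O 1) M := fun {M} _ => by simp
  rw [a_tw hd D hW, e_tw (k := k) hd D (D.inv 1) 1 hc hW (-t)] at h
  push_cast at h
  linarith

include hpure hA

/-- Vanishing of the sections of small twists. -/
theorem h0_small {Q : X.Modules} {r : ℤ} (hQ : SubsLE (k := k) D Q r) (hcQ : Coh.IsCoh Q) {t : ℤ}
    (ht : r + t + (Module.finrank k (Coh.HH X (Coh.structureModule X) 1) : ℤ) + 1 ≤ 0) :
    Subsingleton (Coh.HH X (D.tw Q t) 0) := by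
  haveI : IsNoetherian X := VB17.isNoetherian_of_over (k := k) (X := X)
  have hX : CurveLike k X := VB17.curveLike hd
  haveI := hX.separated
  by_contra hn
  rw [not_subsingleton_iff_nontrivial] at hn
  obtain ⟨z, hz⟩ := exists_ne (0 : Coh.HH X (D.tw Q t) 0)
  let φ := secHom (hh0 _ z)
  let G₀ := Abelian.image φ
  have hcO : Coh.IsCoh (Coh.structureModule X) := CurveCoh17.isCoh_structureModule
  have hQt := isCoh_tw (k := k) hd D hcQ t
  have hG : Coh.IsCoh G₀ := isCoh_img (k := k) hd hcO hQt φ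
  have hT := kerSC_shortExact φ
  haveI : Subsingleton (Coh.HH X (kerSC φ).X₁ (1 + 1)) :=
    subsingleton_HH_of_dim hd.le _ (M1.isQCoh_kernel hcO.1 hQt.1 φ) 0
  have hsurj : Function.Surjective (hmap k (kerSC φ).g 1) := fun x =>
    (exact_hmap_hdelta k hT 1 x).1 (Subsingleton.elim _ _)
  haveI := hX.fin _ hcO 1
  have hh1 : Module.finrank k (Coh.HH X G₀ 1) ≤ Module.finrank k (Coh.HH X (Coh.structureModule X) 1) :=
    LinearMap.finrank_le_finrank_of_surjective hsurj
  have hh1' : (Module.finrank k (Coh.HH X G₀ 1) : ℚ) ≤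
      (Module.finrank k (Coh.HH X (Coh.structureModule X) 1) : ℚ) := by exact_mod_cast hh1
  have hsub := sub_tw hd D hQ hG t (Abelian.image.ι φ)
  have he := e_h0_h1 (k := k) hd hG
  -- a nonzero section of the image
  haveI := hX.fin _ hG 0
  have hpos : 0 < Module.finrank k (Coh.HH X G₀ 0) := by
    rw [Module.finrank_pos_iff]
    obtain ⟨o, ho⟩ : ∃ o, hmap k φ 0 o = z := ⟨(hh0 _).symm (M1.one ⊤), (hh0 _).injective (by
      rw [hh0_hmap, AddEquiv.apply_symm_apply]
      exact secHom_app_one (hh0 _ z))⟩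
    refine nontrivial_of_ne (hmap k (Abelian.factorThruImage φ) 0 o) 0 fun h0 => hz ?_
    rw [← ho, ← Abelian.image.fac φ, hmap_comp, h0, map_zero]
  have hpos' : (1 : ℚ) ≤ (Module.finrank k (Coh.HH X G₀ 0) : ℚ) := by exact_mod_cast hpos
  have ha0 : 0 ≤ a k (D.O 1) G₀ := a_nonneg (k := k) hd hA hG
  have ht' : (r : ℚ) + t + (Module.finrank k (Coh.HH X (Coh.structureModule X) 1) : ℚ) + 1 ≤ 0 := by
    exact_mod_cast ht
  by_cases hgen : ∀ η ∈ genericPoints (X : Type u), η ∉ CohB1.support G₀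
  · obtain ⟨S, hS⟩ := exists_suppIn_of_generic (k := k) hd hG hgen
    obtain ⟨hv, hv'⟩ := vals_suppIn (k := k) hd (D.inv 1) hG hS
    rw [hv', hv] at hsub
    simp only [mul_zero, sub_zero] at hsub
    linarith
  · push Not at hgen
    obtain ⟨η, hη, hηs⟩ := hgen
    have h1 := one_le_a (k := k) hd hA hG (dim_of_generic (k := k) hd hpure hG hη hηs)
    have h2 : ((r : ℚ) + t) * a k (D.O 1) G₀ ≤ ((r : ℚ) + t) * 1 :=
      mul_le_mul_of_nonpos_left h1 (by
        have : (0 : ℚ) ≤ (Module.finrank k (Coh.HH X (Coh.structureModule X) 1) : ℚ) := Nat.cast_nonneg _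
        linarith)
    linarith

/-- One step. -/
theorem h0_step (s : Coh.structureModule X ⟶ D.O 1)
    (hgen : ∀ η ∈ genericPoints (X : Type u), η ∈ CohB1.genLocus (D.O 1) s)
    {Q : X.Modules} {r : ℤ} (hQ : SubsLE (k := k) D Q r) (hcQ : Coh.IsCoh Q) (t : ℤ) :
    (Module.finrank k (Coh.HH X (D.tw Q t) 0) : ℚ) ≤
      (Module.finrank k (Coh.HH X (D.tw Q (t - 1)) 0) : ℚ) + a k (D.O 1) Q := by
  haveI : IsNoetherian X := VB17.isNoetherian_of_over (k := k) (X := X)
  have hX : CurveLike k X := VB17.curveLike hd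
  haveI := hX.separated
  let B := D.tw Q t
  have hB : Coh.IsCoh B := isCoh_tw (k := k) hd D hcQ t
  have hA' : Coh.IsCoh (D.tw B (-1)) := isCoh_tw (k := k) hd D hB (-1)
  let φ := D.mulSec s B
  have hK : Coh.IsCoh (kernel φ) := isCoh_kernel (k := k) hd hA' hB.1 φ
  have hC : Coh.IsCoh (cokernel φ) := M1.isCoh_cokernel hA'.1 hB φ
  have hI : Coh.IsCoh (Abelian.image φ) := isCoh_img (k := k) hd hA' hB φ
  have hb : ∀ η ∈ genericPoints (X : Type u), Function.Bijective (stalkLin φ η) := fun η hη => by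
    have h1 := Snapper.bijective_mulMap_stalk (D.inv (-1)) (Snapper.secMap s D.invIso) B η
      ((Snapper.surjective_secMap_iff (D.inv 1) (D.inv (-1)) _ _ η).2 (hgen η hη))
    have h2 := Snapper.bijective_stalkLin_iso (M2.tensorComm B (D.O (-1))) η
    have h : ⇑(stalkLin φ η) =
        ⇑(stalkLin (Snapper.mulMap (Snapper.secMap s D.invIso) B) η) ∘
          ⇑(stalkLin (M2.tensorComm B (D.O (-1))).hom η) := funext fun b => stalkLin_comp _ _ η b
    rw [h]
    exact h1.comp h2
  obtain ⟨SK, hSK⟩ := exists_suppIn_of_generic (k := k) hd hK fun η hη hs => by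
    obtain ⟨w, hw⟩ := TFOne27.exists_ne_of_mem_support hs
    refine hw (TFOne27.injective_stalkLin (kernel.ι φ) η ((hb η hη).1 ?_))
    rw [map_zero, map_zero, ← stalkLin_comp, kernel.condition]
    exact TFOne27.stalkLin_zero η w
  obtain ⟨SC, hSC⟩ := exists_suppIn_of_generic (k := k) hd hC fun η hη hs => by
    obtain ⟨w, hw⟩ := TFOne27.exists_ne_of_mem_support hs
    obtain ⟨b, rfl⟩ := TFOne27.surjective_stalkLin (cokernel.π φ) η w
    obtain ⟨c, rfl⟩ := (hb η hη).2 b
    refine hw ?_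
    rw [← stalkLin_comp, cokernel.condition]
    exact TFOne27.stalkLin_zero η c
  obtain ⟨hvK, haK⟩ := vals_suppIn (k := k) hd (D.inv 1) hK hSK
  obtain ⟨hvC, -⟩ := vals_suppIn (k := k) hd (D.inv 1) hC hSC
  let u : D.tw B (-1) ≅ D.tw Q (t - 1) := D.twTwist Q t (-1) ≪≫ D.twIso Q (by ring)
  have hK0 := sub_tw hd D hQ hK (t - 1) (kernel.ι φ ≫ u.hom)
  rw [haK, hvK] at hK0
  simp only [mul_zero, sub_zero] at hK0
  have hK0' : Module.finrank k (Coh.HH X (kernel φ) 0) = 0 := by
    have : (Module.finrank k (Coh.HH X (kernel φ) 0) : ℚ) ≤ 0 := hK0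
    exact_mod_cast le_antisymm this (Nat.cast_nonneg _)
  -- sections of the image
  haveI : Subsingleton (Coh.HH X (kerSC φ).X₁ (0 + 1)) := hSK.subsingleton_HH 0
  have hsurj : Function.Surjective (hmap k (kerSC φ).g 0) := fun x =>
    (exact_hmap_hdelta k (kerSC_shortExact φ) 0 x).1 (Subsingleton.elim _ _)
  haveI := hX.fin _ hA' 0
  haveI := hX.fin _ hI 0
  haveI := hX.fin _ hB 0
  haveI := hX.fin _ hC 0
  have hIm : Module.finrank k (Coh.HH X (Abelian.image φ) 0) ≤ Module.finrank k (Coh.HH X (D.tw B (-1)) 0) :=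
    LinearMap.finrank_le_finrank_of_surjective hsurj
  have hex := finrank_eq_range_add_range (hmap k (cokerSC φ).f 0) (hmap k (cokerSC φ).g 0)
    (exact_hmap_hmap k (cokerSC_shortExact φ) 0)
  have hr1 : Module.finrank k (LinearMap.range (hmap k (cokerSC φ).f 0)) ≤
      Module.finrank k (Coh.HH X (Abelian.image φ) 0) := LinearMap.finrank_range_le _
  have hr2 : Module.finrank k (LinearMap.range (hmap k (cokerSC φ).g 0)) ≤
      Module.finrank k (Coh.HH X (cokernel φ) 0) := Submodule.finrank_le _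
  have hB0 : Module.finrank k (Coh.HH X B 0) ≤
      Module.finrank k (Coh.HH X (D.tw B (-1)) 0) + Module.finrank k (Coh.HH X (cokernel φ) 0) :=
    hex.le.trans (Nat.add_le_add (hr1.trans hIm) hr2)
  rw [LinearEquiv.finrank_eq (hequiv k u 0)] at hB0
  classical
  obtain ⟨-, -, hsub⟩ := euler_sub φ (hX.adm hA') (hX.adm hB) (hSK.mono Finset.subset_union_left fun x hx => by
      rcases Finset.mem_union.1 hx with h | h
      · exact hSK.closed x h
      · exact hSC.closed x h) (hSC.mono (S := SC) (T := SK ∪ SC) Finset.subset_union_right fun x hx => by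
      rcases Finset.mem_union.1 hx with h | h
      · exact hSK.closed x h
      · exact hSC.closed x h)
  rw [hK0'] at hsub
  have hsubq : e k B - e k (D.tw B (-1)) = (Module.finrank k (Coh.HH X (cokernel φ) 0) : ℚ) := by
    have : ((Curv2.euler k X B - Curv2.euler k X (D.tw B (-1)) : ℤ) : ℚ) =
        (((Module.finrank k (Coh.HH X (cokernel φ) 0) : ℤ) - ((0 : ℕ) : ℤ) : ℤ) : ℚ) := by rw [hsub]
    rw [e, e]
    push_cast at this ⊢
    linarith
  have hc : ∀ {M : X.Modules}, Coh.IsCoh M → a k (D.O 1) M = ((1 : ℕ) : ℚ) * a k (D.O 1) M := fun {M} _ => by simp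
  rw [e_iso k u, e_tw (k := k) hd D (D.inv 1) 1 hc hcQ, e_tw (k := k) hd D (D.inv 1) 1 hc hcQ] at hsubq
  push_cast at hsubq
  have hB0' : (Module.finrank k (Coh.HH X B 0) : ℚ) ≤
      (Module.finrank k (Coh.HH X (D.tw Q (t - 1)) 0) : ℚ) + (Module.finrank k (Coh.HH X (cokernel φ) 0) : ℚ) := by
    exact_mod_cast hB0
  linarith

/-- Sections of all twists. -/
theorem h0_le (s : Coh.structureModule X ⟶ D.O 1)
    (hgen : ∀ η ∈ genericPoints (X : Type u), η ∈ CohB1.genLocus (D.O 1) s)
    {Q : X.Modules} {r J : ℤ} (hJ : r + (Module.finrank k (Coh.HH X (Coh.structureModule X) 1) : ℤ) + 1 ≤ J)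
    (hQ : SubsLE (k := k) D Q r) (hcQ : Coh.IsCoh Q) (t : ℤ) :
    (Module.finrank k (Coh.HH X (D.tw Q t) 0) : ℚ) ≤ ((max 0 (t + J) : ℤ) : ℚ) * a k (D.O 1) Q := by
  have hbase : ∀ v : ℤ, v + J ≤ 0 → (Module.finrank k (Coh.HH X (D.tw Q v) 0) : ℚ) = 0 := fun v hv => by
    haveI := h0_small hd D hpure hA hQ hcQ (t := v) (by omega)
    simp [Module.finrank_zero_of_subsingleton]
  have key : ∀ j : ℕ, (Module.finrank k (Coh.HH X (D.tw Q (-J + j)) 0) : ℚ) ≤ (j : ℚ) * a k (D.O 1) Q := by
    intro j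
    induction j with
    | zero =>
      rw [Nat.cast_zero, add_zero, hbase (-J) (by omega), Nat.cast_zero, zero_mul]
    | succ j ih =>
      have h := h0_step hd D hpure hA s hgen hQ hcQ (-J + (j + 1 : ℕ))
      rw [show -J + ((j + 1 : ℕ) : ℤ) - 1 = -J + (j : ℤ) by push_cast; ring] at h
      push_cast at h ⊢
      linarith
  rcases le_or_gt (t + J) 0 with h | h
  · rw [hbase t h, max_eq_left h]
    simp
  · have h' := key (t + J).toNat
    rw [show -J + ((t + J).toNat : ℤ) = t by omega] at h'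
    rw [max_eq_right h.le]
    have e1 : (((t + J).toNat : ℕ) : ℚ) = (((t + J : ℤ)) : ℚ) := by
      rw [← Int.cast_natCast, Int.toNat_of_nonneg h.le]
    rwa [e1] at h'

omit hpure in
/-- A maximal destabilizing submodule. -/
theorem exists_max {F : X.Modules} (hF : Coh.IsCoh F) (r : ℤ) :
    ∃ (G : X.Modules) (j : G ⟶ F), Mono j ∧ Coh.IsCoh G ∧ SubsLE (k := k) D (cokernel j) r ∧
      ∀ (G' : X.Modules) (j' : G' ⟶ F), Mono j' → Coh.IsCoh G' →
        e k G' - r * a k (D.O 1) G' ≤ e k G - r * a k (D.O 1) G := by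
  haveI : IsNoetherian X := VB17.isNoetherian_of_over (k := k) (X := X)
  have hX : CurveLike k X := VB17.curveLike hd
  let P : ℤ → Prop := fun z => ∃ (G : X.Modules) (j : G ⟶ F), Mono j ∧ Coh.IsCoh G ∧
    (z : ℚ) = e k G - r * a k (D.O 1) G
  have hint : ∀ G : X.Modules, ∃ z : ℤ, (z : ℚ) = e k G - r * a k (D.O 1) G := fun G => by
    obtain ⟨w, hw⟩ := exists_int_a (k := k) hd (D.O 1) G
    exact ⟨Curv2.euler k X G - r * w, by rw [hw, e]; push_cast; ring⟩
  haveI := hX.fin _ hF 0
  obtain ⟨Z, hZ⟩ := exists_nat_ge ((Module.finrank k (Coh.HH X F 0) : ℚ) + |(r : ℚ)| * a k (D.O 1) F)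
  have hbdd : ∃ b : ℤ, ∀ z : ℤ, P z → z ≤ b := ⟨Z, fun z ⟨G, j, hj, hG, hz⟩ => by
    have hS : (ShortComplex.mk j (cokernel.π j) (cokernel.condition j)).ShortExact :=
      { exact := ShortComplex.exact_of_g_is_cokernel _ (cokernelIsCokernel _) }
    have hc := M1.isCoh_cokernel hG.1 hF j
    have hadd := (e_add k hd (D.inv 1) hS hG hF hc).2
    dsimp only at hadd
    have hle : Module.finrank k (Coh.HH X G 0) ≤ Module.finrank k (Coh.HH X F 0) :=
      LinearMap.finrank_le_finrank_of_injective (hmap_f_injective k hS)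
    have hle' : (Module.finrank k (Coh.HH X G 0) : ℚ) ≤ (Module.finrank k (Coh.HH X F 0) : ℚ) := by
      exact_mod_cast hle
    have he := e_h0_h1 (k := k) hd hG
    have h1 : (0 : ℚ) ≤ (Module.finrank k (Coh.HH X G 1) : ℚ) := Nat.cast_nonneg _
    have h2 := a_nonneg (k := k) hd hA hG
    have h3 := a_nonneg (k := k) hd hA hc
    have h4 : -(r : ℚ) * a k (D.O 1) G ≤ |(r : ℚ)| * a k (D.O 1) F :=
      (mul_le_mul_of_nonneg_right (neg_le_abs _) h2).trans
        (mul_le_mul_of_nonneg_left (by linarith) (abs_nonneg _))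
    have : (z : ℚ) ≤ ((Z : ℤ) : ℚ) := by
      rw [hz]; push_cast; linarith
    exact_mod_cast this⟩
  obtain ⟨z₀, hz₀⟩ := hint F
  obtain ⟨m, ⟨G, j, hj, hG, hm⟩, hmax⟩ := Int.exists_greatest_of_bdd hbdd ⟨z₀, F, 𝟙 F, inferInstance, hF, hz₀⟩
  have hmax' : ∀ (G' : X.Modules) (j' : G' ⟶ F), Mono j' → Coh.IsCoh G' →
      e k G' - r * a k (D.O 1) G' ≤ e k G - r * a k (D.O 1) G := fun G' j' hj' hG' => by
    obtain ⟨z, hz⟩ := hint G'
    have h := hmax z ⟨G', j', hj', hG', hz⟩
    rw [← hm, ← hz]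
    exact_mod_cast h
  refine ⟨G, j, hj, hG, fun W i hi hW => ?_, hmax'⟩
  haveI := hj
  haveI := hi
  have hcQ := M1.isCoh_cokernel hG.1 hF j
  have hcR := M1.isCoh_cokernel hW.1 hcQ i
  let p : F ⟶ cokernel i := cokernel.π j ≫ cokernel.π i
  haveI : Epi p := epi_comp _ _
  have hK := isCoh_kernel (k := k) hd hF hcR.1 p
  have h1 := e_add k hd (D.inv 1) (S := ShortComplex.mk j (cokernel.π j) (cokernel.condition j))
    { exact := ShortComplex.exact_of_g_is_cokernel _ (cokernelIsCokernel _) } hG hF hcQ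
  have h2 := e_add k hd (D.inv 1) (S := ShortComplex.mk i (cokernel.π i) (cokernel.condition i))
    { exact := ShortComplex.exact_of_g_is_cokernel _ (cokernelIsCokernel _) } hW hcQ hcR
  have h3 := e_add k hd (D.inv 1) (S := ShortComplex.mk (kernel.ι p) p (kernel.condition p))
    { exact := ShortComplex.exact_of_f_is_kernel _ (kernelIsKernel _) } hK hF hcR
  dsimp only at h1 h2 h3
  have h := hmax' _ (kernel.ι p) inferInstance hK
  linarith [h1.1, h1.2, h2.1, h2.2, h3.1, h3.2, h,
    show (r : ℚ) * a k (D.O 1) F = r * a k (D.O 1) G + r * a k (D.O 1) (cokernel j) by rw [h1.2, mul_add],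
    show (r : ℚ) * a k (D.O 1) (cokernel j) = r * a k (D.O 1) W + r * a k (D.O 1) (cokernel i) by rw [h2.2, mul_add],
    show (r : ℚ) * a k (D.O 1) F = r * a k (D.O 1) (kernel p) + r * a k (D.O 1) (cokernel i) by rw [h3.2, mul_add]]

end Groth.Agent.Comp17
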